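import Groth.Agent.AlgzPiLib.PiPoints
import Groth.Agent.Props12.TildeFin
import Groth.Agent.Desc19b.ModStFibGrpd
import Groth.Agent.Flatn12.PullbackSections
import Mathlib.Algebra.Module.FinitePresentation

/-!
Finitely presented modules over products of rings, and products of sections of pullbacks.
-/

set_option autoImplicit false

universe u

open CategoryTheory AlgebraicGeometry TensorProduct

namespace Groth.Agent.AlgzPiLib

noncomputable section

section Algebra

variable {ι : Type u} (A : ι → Type u) [∀ i, CommRing (A i)]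

/-- Evaluation at `i` of a tensor with a free module. -/
def evalFree (n : ℕ) (i : ι) [Algebra (∀ i, A i) (A i)]
    (h : ∀ (r : ∀ i, A i), algebraMap (∀ i, A i) (A i) r = r i) :
    A i ⊗[∀ i, A i] (Fin n → ∀ i, A i) →ₗ[A i] (Fin n → A i) :=
  LinearMap.liftBaseChange (A i)
    { toFun := fun v j => v j i
      map_add' := fun _ _ => rfl
      map_smul' := fun r v => funext fun j => by simp [Algebra.smul_def, h] }

/-- The natural map to the product of the base changes along the projections. -/
def toPiTensor [∀ i, Algebra (∀ i, A i) (A i)] (M : Type u) [AddCommGroup M] [Module (∀ i, A i) M] :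
    M →+ ∀ i, A i ⊗[∀ i, A i] M :=
  AddMonoidHom.pi fun i => (TensorProduct.mk (∀ i, A i) (A i) M 1).toAddMonoidHom

theorem bijective_toPiTensor [∀ i, Algebra (∀ i, A i) (A i)]
    (h : ∀ (i : ι) (r : ∀ i, A i), algebraMap (∀ i, A i) (A i) r = r i)
    (M : Type u) [AddCommGroup M] [Module (∀ i, A i) M] [Module.FinitePresentation (∀ i, A i) M] :
    Function.Bijective (toPiTensor A M) := by
  classical
  obtain ⟨n, K, e, hK⟩ := Module.FinitePresentation.exists_fin (∀ i, A i) M
  let q : (Fin n → ∀ i, A i) →ₗ[∀ i, A i] M := e.symm.toLinearMap ∘ₗ K.mkQ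
  have hq : Function.Surjective q := e.symm.surjective.comp K.mkQ_surjective
  constructor
  · refine (injective_iff_map_eq_zero _).mpr fun m hm => ?_
    obtain ⟨c, rfl⟩ := hq m
    obtain ⟨s, hs⟩ := hK
    have hex : Function.Exact K.subtype q := by
      intro v
      simp [q]
    have hc : ∀ i, ∃ d : s → A i, ∀ j, c j i = ∑ l : s, d l * (l : Fin n → ∀ i, A i) j i := by
      intro i
      obtain ⟨t, ht⟩ := (lTensor_exact (A i) hex hq ((1 : A i) ⊗ₜ c)).mp
        ((LinearMap.lTensor_tmul _ q 1 c).trans (congrFun hm i))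
      have hspan : ∀ t : A i ⊗[∀ i, A i] K, evalFree A n i (h i) (K.subtype.lTensor (A i) t) ∈
          Submodule.span (A i) (Set.range fun l : s => fun j => (l : Fin n → ∀ i, A i) j i) := by
        intro t
        induction t with
        | zero => simp
        | tmul a k =>
          simp only [LinearMap.lTensor_tmul, evalFree, LinearMap.liftBaseChange_tmul]
          refine Submodule.smul_mem _ a ?_
          have hk : ∀ v ∈ Submodule.span (∀ i, A i) (s : Set (Fin n → ∀ i, A i)),
              (fun j => v j i) ∈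
                Submodule.span (A i) (Set.range fun l : s => fun j => (l : Fin n → ∀ i, A i) j i) := by
            intro v hv
            induction hv using Submodule.span_induction with
            | mem x hx => exact Submodule.subset_span ⟨⟨x, hx⟩, rfl⟩
            | zero => exact Submodule.zero_mem _
            | add x y _ _ hx hy => exact Submodule.add_mem _ hx hy
            | smul r x _ hx => exact Submodule.smul_mem _ (r i) hx
          exact hk _ (hs.symm ▸ k.2)
        | add x y hx hy =>
          rw [map_add, map_add]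
          exact Submodule.add_mem _ hx hy
      have := hspan t
      rw [ht] at this
      obtain ⟨d, hd⟩ := (Submodule.mem_span_range_iff_exists_fun _).mp this
      refine ⟨d, fun j => ?_⟩
      have h2 := congrFun hd j
      simp only [evalFree, LinearMap.liftBaseChange_tmul, LinearMap.coe_mk, AddHom.coe_mk,
        Finset.sum_apply, Pi.smul_apply, smul_eq_mul] at h2
      exact (one_mul (c j i)).symm.trans h2.symm
    choose d hd using hc
    have : c = ∑ l : s, (fun i => d i l) • (l : Fin n → ∀ i, A i) := by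
      funext j i
      rw [hd i j]
      simp [Finset.sum_apply]
    have hcK : c ∈ K := by
      rw [this, ← hs]
      exact Submodule.sum_mem _ fun l _ => Submodule.smul_mem _ _ (Submodule.subset_span l.2)
    exact (hex c).mpr ⟨⟨c, hcK⟩, rfl⟩
  · intro z
    have : ∀ i, ∃ a : Fin n → A i, ∑ j, a j ⊗ₜ[∀ i, A i] q (Pi.single j 1) = z i := by
      intro i
      induction z i with
      | zero => exact ⟨0, by simp⟩
      | tmul b m =>
        obtain ⟨v, rfl⟩ := hq m
        refine ⟨fun j => b * v j i, ?_⟩
        have hv : q v = ∑ j, v j • q (Pi.single j 1) := by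
          rw [← Finset.univ_sum_single v]
          simp only [map_sum]
          refine Finset.sum_congr rfl fun j _ => ?_
          rw [← map_smul, Finset.univ_sum_single]
          congr 1
          ext k t
          by_cases hk : k = j <;> simp [hk]
        rw [hv, TensorProduct.tmul_sum]
        refine Finset.sum_congr rfl fun j _ => ?_
        rw [TensorProduct.tmul_smul, TensorProduct.smul_tmul', Algebra.smul_def, h, mul_comm]
      | add x y hx hy =>
        obtain ⟨a, ha⟩ := hx
        obtain ⟨b, hb⟩ := hy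
        exact ⟨a + b, by simp [TensorProduct.add_tmul, Finset.sum_add_distrib, ha, hb]⟩
    choose a ha using this
    refine ⟨∑ j, (fun i => a i j) • q (Pi.single j 1), funext fun i => ?_⟩
    rw [← ha i]
    simp only [map_sum, Finset.sum_apply]
    refine Finset.sum_congr rfl fun j _ => ?_
    show (1 : A i) ⊗ₜ[∀ i, A i] ((fun i => a i j) • q (Pi.single j 1)) = _
    rw [TensorProduct.tmul_smul, TensorProduct.smul_tmul', Algebra.smul_def, h, mul_one]

/-- A family of semilinear bijections from the base changes gives finite presentation of the product. -/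
theorem finitePresentation_pi_of_addEquiv (B N : ι → Type u) [∀ i, CommRing (B i)]
    [∀ i, AddCommGroup (N i)] [∀ i, Module (B i) (N i)] (φ : ∀ i, A i →+* B i)
    (hφ : ∀ i, Function.Bijective (φ i)) [∀ i, Algebra (∀ i, A i) (A i)]
    (h : ∀ (i : ι) (r : ∀ i, A i), algebraMap (∀ i, A i) (A i) r = r i)
    (M : Type u) [AddCommGroup M] [Module (∀ i, A i) M] [Module.FinitePresentation (∀ i, A i) M]
    (θ : ∀ i, A i ⊗[∀ i, A i] M ≃+ N i) (hθ : ∀ (i : ι) (a : A i) x, θ i (a • x) = φ i a • θ i x) :
    Module.FinitePresentation (∀ i, B i) (∀ i, N i) := by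
  let Φ : (∀ i, A i) →+* ∀ i, B i := RingHom.pi fun i => (φ i).comp (Pi.evalRingHom A i)
  let _ : Algebra (∀ i, A i) (∀ i, B i) := Φ.toAlgebra
  let _ : Module (∀ i, A i) (∀ i, N i) := Module.compHom _ Φ
  have : IsScalarTower (∀ i, A i) (∀ i, B i) (∀ i, N i) := IsScalarTower.of_algebraMap_smul fun _ _ => rfl
  have hsurj : Function.Surjective (algebraMap (∀ i, A i) (∀ i, B i)) := fun b =>
    ⟨fun i => ((hφ i).2 (b i)).choose, funext fun i => ((hφ i).2 (b i)).choose_spec⟩
  let E₀ : M ≃+ ∀ i, N i :=
    (AddEquiv.ofBijective (toPiTensor A M) (bijective_toPiTensor A h M)).trans (AddEquiv.piCongrRight θ)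
  let E : M ≃ₗ[∀ i, A i] ∀ i, N i :=
    { E₀ with
      map_smul' := fun r x => funext fun i => by
        show θ i ((1 : A i) ⊗ₜ[∀ i, A i] (r • x)) = φ i (r i) • θ i ((1 : A i) ⊗ₜ[∀ i, A i] x)
        rw [← hθ, TensorProduct.tmul_smul, ← algebraMap_smul (A i) r ((1 : A i) ⊗ₜ[∀ i, A i] x), h] }
  have := Module.FinitePresentation.of_equiv E
  exact EGA43.FlatSyzygy.finitePresentation_of_surjective_algebraMap (Q := ∀ i, A i) hsurj

end Algebra

set_option backward.isDefEq.respectTransparency false in
theorem exists_tilde_iso_of_isFP {R : CommRingCat.{u}} (P : (Spec R).Modules) (hP : CohB1.IsFP P) :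
    ∃ (M : ModuleCat.{u} R), Nonempty (tilde M ≅ P) ∧ Module.FinitePresentation R M := by
  have : SheafOfModules.IsFinitePresentation.{u} (R := (Spec R).ringCatSheaf) P := hP
  have : Coh.IsQCoh P := inferInstanceAs (SheafOfModules.IsQuasicoherent.{u} (R := (Spec R).ringCatSheaf) P)
  have : IsIso (Scheme.Modules.fromTildeΓ P) :=
    @Scheme.Modules.isIso_fromTildeΓ_of_isQuasicoherent R P this
  let e : tilde ((modulesSpecToSheaf.obj P).presheaf.obj (Opposite.op ⊤)) ≅ P :=
    asIso (Scheme.Modules.fromTildeΓ P)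
  exact ⟨_, ⟨e⟩, (Props12.isFP_tilde_iff _).mp ((SheafOfModules.isFinitePresentation (Spec R).ringCatSheaf).prop_of_iso e.symm hP)⟩

theorem exists_addEquiv_sections_pullback {R B : CommRingCat.{u}} (φ : R ⟶ B) (M : ModuleCat.{u} R)
    {X : Scheme.{u}} (F : X.Modules) (g : Spec R ⟶ X) (e : tilde M ≅ (Scheme.Modules.pullback g).obj F)
    (f : Spec B ⟶ X) (hf : Spec.map φ ≫ g = f) :
    ∃ θ : ((ModuleCat.extendScalars φ.hom).obj M) ≃+ Γ((Scheme.Modules.pullback f).obj F, ⊤),
      ∀ (a : B) x, θ (a • x) = (Scheme.ΓSpecIso B).inv.hom a • θ x := by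
  let e' : tilde ((ModuleCat.extendScalars φ.hom).obj M) ≅ (Scheme.Modules.pullback f).obj F :=
    ((Flatn12.tildePullbackIso φ).app M).symm ≪≫ (Scheme.Modules.pullback _).mapIso e ≪≫
      (Scheme.Modules.pullbackComp (Spec.map φ) g).app F ≪≫ (Scheme.Modules.pullbackCongr hf).app F
  let θ := (Props12.topEquiv ((ModuleCat.extendScalars φ.hom).obj M)).trans
    (((TopCat.Sheaf.forget _ _ ⋙ (CategoryTheory.evaluation _ _).obj (Opposite.op ⊤)).mapIso
      (modulesSpecToSheaf.mapIso e')).toLinearEquiv)
  refine ⟨θ.toAddEquiv, fun a x => (θ.map_smul a x).trans ?_⟩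
  refine (Scheme.Modules.smul_Spec_def a (θ x)).trans ?_
  congr 1

theorem finitePresentation_pi_sections_pullback (X : Scheme.{u}) [CompactSpace X] [QuasiSeparatedSpace X]
    {ι : Type u} (A : ι → CommRingCat.{u}) (f : ∀ i, Spec (A i) ⟶ X) (F : X.Modules) (hF : CohB1.IsFP F) :
    Module.FinitePresentation (∀ i, Γ(Spec (A i), ⊤))
      (∀ i, Γ((Scheme.Modules.pullback (f i)).obj F, ⊤)) := by
  obtain ⟨g, hg⟩ := pointsPi_surjective A X f
  obtain ⟨M, ⟨e⟩, hM⟩ := exists_tilde_iso_of_isFP ((Scheme.Modules.pullback g).obj F)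
    (Desc19b.ModStFib.isFP_pullback g F hF)
  choose θ hθ using fun i => exists_addEquiv_sections_pullback
    (CommRingCat.ofHom (Pi.evalRingHom (fun j => (A j : Type u)) i) : piRing A ⟶ A i) M F g e (f i)
    (congrFun hg i)
  let alg : ∀ i, Algebra (∀ i, A i) (A i) := fun i => (Pi.evalRingHom (fun j => (A j : Type u)) i).toAlgebra
  exact finitePresentation_pi_of_addEquiv (fun i => (A i : Type u)) (fun i => Γ(Spec (A i), ⊤))
    (fun i => Γ((Scheme.Modules.pullback (f i)).obj F, ⊤)) (fun i => (Scheme.ΓSpecIso (A i)).inv.hom)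
    (fun i => ConcreteCategory.bijective_of_isIso (Scheme.ΓSpecIso (A i)).inv)
    (fun i r => rfl) M θ hθ

end

end Groth.Agent.AlgzPiLib
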