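import Groth.Prelude.Def_W4c5algebraiztannakaNis
import Mathlib.AlgebraicGeometry.Morphisms.FinitePresentation
import Mathlib.AlgebraicGeometry.IdealSheaf.Subscheme
import Mathlib.AlgebraicGeometry.Morphisms.Immersion
import Mathlib.AlgebraicGeometry.PullbackCarrier

/-!
Nisnevich covers of bounded length: base change, open covers, composition.
-/

set_option autoImplicit false

universe u

open CategoryTheory CategoryTheory.Limits AlgebraicGeometry Topology TopologicalSpace
open W4c5algebraiztannaka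

namespace Groth.Agent.AlgzPiLib

noncomputable section

theorem isCompact_of_isConstructible {X : Scheme.{u}} [CompactSpace X] [QuasiSeparatedSpace X]
    {s : Set X} (hs : IsConstructible s) : IsCompact s := by
  have : Nonempty {U : X.Opens // IsCompact (U : Set X)} := ⟨⟨⊥, by simp⟩⟩
  refine IsConstructible.induction_of_isTopologicalBasis
    (P := fun s _ => IsCompact s) (fun U : {U : X.Opens // IsCompact (U : Set X)} => (U.1 : Set X))
    (TopologicalSpace.isTopologicalBasis_of_isOpen_of_nhds ?_ ?_) (fun U => U.2) (fun i t ht => ?_)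
    (fun _ _ _ _ h1 h2 => h1.union h2) s hs
  · rintro _ ⟨U, rfl⟩
    exact U.1.2
  · intro x v hx hv
    obtain ⟨_, ⟨W, hW, rfl⟩, hxW, hWv⟩ := X.isBasis_affineOpens.exists_subset_of_mem_open hx hv
    exact ⟨_, ⟨⟨W, hW.isCompact⟩, rfl⟩, hxW, hWv⟩
  · exact IsCompact.diff i.2 (isOpen_biUnion fun j _ => j.1.2)

/-- An immersion onto a closed subset of an open. -/
theorem exists_immersion_range {X : Scheme.{u}} (U : X.Opens) (Z : Set X) (hZ : IsClosed Z) :
    ∃ (T : Scheme.{u}) (ι : T ⟶ (U : Scheme.{u})),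
      IsImmersion (ι ≫ U.ι) ∧ Set.range (fun t : T => (ι ≫ U.ι) t) = (U : Set X) ∩ Z := by
  let Z' : TopologicalSpace.Closeds (U : Scheme.{u}) := ⟨U.ι ⁻¹' Z, hZ.preimage U.ι.continuous⟩
  let I := Scheme.IdealSheafData.vanishingIdeal Z'
  refine ⟨I.subscheme, I.subschemeι, inferInstance, ?_⟩
  have h1 : Set.range (fun t : I.subscheme => (I.subschemeι ≫ U.ι) t) = U.ι '' Set.range I.subschemeι := by
    rw [← Set.range_comp]
    rfl
  rw [h1, I.range_subschemeι, Scheme.IdealSheafData.coe_support_vanishingIdeal]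
  show U.ι '' (U.ι ⁻¹' Z) = _
  rw [Set.image_preimage_eq_inter_range, Scheme.Opens.range_ι, Set.inter_comm]

theorem hasSectOver_preimage {U Y Y' : Scheme.{u}} (f : U ⟶ Y) (g : Y' ⟶ Y) {W : Set Y}
    (h : HasSectOver f W) : HasSectOver (pullback.snd f g) (g ⁻¹' W) := by
  obtain ⟨T, j, s, hj, hrange, hs⟩ := h
  refine ⟨pullback j g, pullback.snd j g,
    pullback.lift (pullback.fst j g ≫ s) (pullback.snd j g) (by rw [Category.assoc, hs, pullback.condition]),
    inferInstance, ?_, pullback.lift_snd _ _ _⟩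
  show Set.range (pullback.snd j g) = _
  rw [Scheme.Pullback.range_snd, ← hrange]

set_option backward.isDefEq.respectTransparency.types false in
theorem isNisCoverLen_pullback_snd {U Y Y' : Scheme.{u}} (f : U ⟶ Y) (g : Y' ⟶ Y) {m : ℕ}
    (hf : IsNisCoverLen f m) : IsNisCoverLen (pullback.snd f g) m := by
  obtain ⟨het, Z, h0, h1, hmono, hZ, hsec⟩ := hf
  refine ⟨MorphismProperty.pullback_snd _ _ het, fun k => g ⁻¹' Z k, by simp [h0], by simp [h1],
    fun a b hab => Set.preimage_mono (hmono hab),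
    fun k => ⟨(hZ k).1.preimage g.continuous, g.isConstructible_preimage (hZ k).2⟩, fun k => ?_⟩
  rw [← Set.preimage_sdiff]
  exact hasSectOver_preimage f g (hsec k)

set_option backward.isDefEq.respectTransparency.types false in
theorem isNisCoverLen_sigma_desc {U : Scheme.{u}} [CompactSpace U] [QuasiSeparatedSpace U]
    (k : ℕ) (V : Fin k → U.Opens) (hV : ∀ i, IsCompact (V i : Set U)) (hcov : ⨆ i, V i = ⊤) :
    IsNisCoverLen (Sigma.desc (fun i => (V i).ι) : (∐ fun i => ((V i : U.Opens) : Scheme.{u})) ⟶ U) k := by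
  refine ⟨IsZariskiLocalAtSource.sigmaDesc (P := @Etale) fun i => inferInstance,
    fun j => (⋃ (i : Fin k) (_ : (j : ℕ) ≤ i), (V i : Set U))ᶜ, ?_, ?_, ?_, ?_, ?_⟩
  · rw [Set.compl_empty_iff]
    refine Set.eq_univ_of_forall fun x => ?_
    obtain ⟨i, hi⟩ := Opens.mem_iSup.mp (show x ∈ ⨆ i, V i by rw [hcov]; trivial)
    exact Set.mem_iUnion₂.mpr ⟨i, Nat.zero_le _, hi⟩
  · rw [Set.compl_univ_iff]
    refine Set.eq_empty_of_forall_notMem fun x hx => ?_
    obtain ⟨i, hi, -⟩ := Set.mem_iUnion₂.mp hx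
    simp only [Fin.val_last] at hi
    omega
  · intro a b hab
    refine Set.compl_subset_compl.mpr fun x hx => ?_
    obtain ⟨i, hi, hxi⟩ := Set.mem_iUnion₂.mp hx
    exact Set.mem_iUnion₂.mpr ⟨i, le_trans (Fin.le_def.mp hab) hi, hxi⟩
  · intro j
    refine ⟨(isOpen_iUnion fun i => isOpen_iUnion fun _ => (V i).2).isClosed_compl,
      (IsConstructible.iUnion fun i => IsConstructible.iUnion fun _ => ?_).compl⟩
    exact (hV i).isConstructible (V i).2
  · intro j
    obtain ⟨T, s, hs, hrange⟩ := exists_immersion_range (V j)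
      (⋃ (i : Fin k) (_ : (j : ℕ) < i), (V i : Set U))ᶜ
      (isOpen_iUnion fun i => isOpen_iUnion fun _ => (V i).2).isClosed_compl
    refine ⟨T, s ≫ (V j).ι, s ≫ Sigma.ι (fun i => ((V i : U.Opens) : Scheme.{u})) j, hs, ?_,
      by rw [Category.assoc, Sigma.ι_desc]⟩
    rw [hrange]
    ext x
    simp only [Fin.val_succ, Fin.val_castSucc, Set.mem_inter_iff, Set.mem_compl_iff, Set.mem_sdiff,
      Set.mem_iUnion, exists_prop, not_exists, not_and, not_forall, not_not, SetLike.mem_coe]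
    constructor
    · exact fun h => ⟨fun i hi => h.2 i hi, j, le_rfl, h.1⟩
    · rintro ⟨h1, i, hi, hxi⟩
      refine ⟨?_, fun i hi => h1 i hi⟩
      rcases hi.lt_or_eq with hlt | heq
      · exact absurd hxi (h1 i hlt)
      · rwa [show j = i from Fin.ext heq]

section Comp

variable {Y₁ Y₂ Y₃ : Scheme.{u}}

theorem isClosed_isConstructible_union_image [CompactSpace Y₃] [QuasiSeparatedSpace Y₃] {T : Scheme.{u}}
    (j : T ⟶ Y₃) [IsImmersion j] {A B : Set Y₃} (hA : IsClosed A) (hA' : IsConstructible A)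
    (hB : IsClosed B) (hB' : IsConstructible B) (hAB : A ⊆ B) (hj : Set.range j = B \ A)
    {C : Set T} (hC : IsClosed C) (hC' : IsConstructible C) :
    IsClosed (A ∪ j '' C) ∧ IsConstructible (A ∪ j '' C) := by
  have he : IsEmbedding j := j.isEmbedding
  have hT : CompactSpace T := ⟨by
    rw [he.isCompact_iff, Set.image_univ, hj]
    exact isCompact_of_isConstructible (hB'.sdiff hA')⟩
  have hT' : QuasiSeparatedSpace T := quasiSeparatedSpace_of_quasiSeparated j
  have hG : IsClosed (A ∪ j '' C) := by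
    obtain ⟨D, hD, hDC⟩ := he.isInducing.isClosed_iff.mp hC
    have e : A ∪ j '' C = A ∪ (D ∩ B) := by
      rw [← hDC, Set.image_preimage_eq_inter_range, hj]
      ext x
      simp only [Set.mem_union, Set.mem_inter_iff, Set.mem_sdiff]
      tauto
    rw [e]
    exact hA.union (hD.inter hB)
  refine ⟨hG, ?_⟩
  have e : (A ∪ j '' C)ᶜ = Bᶜ ∪ j '' Cᶜ := by
    rw [Set.image_compl_eq_range_sdiff_image he.injective, hj]
    ext x
    simp only [Set.mem_compl_iff, Set.mem_union, Set.mem_sdiff]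
    constructor
    · intro h
      by_cases hx : x ∈ B
      · exact Or.inr ⟨⟨hx, fun ha => h (Or.inl ha)⟩, fun hc => h (Or.inr hc)⟩
      · exact Or.inl hx
    · rintro (hx | ⟨⟨-, ha⟩, hc⟩) (h | h)
      · exact hx (hAB h)
      · exact hx (hj.subset (Set.image_subset_range _ _ h)).1
      · exact ha h
      · exact hc h
  have hc : IsCompact (A ∪ j '' C)ᶜ := by
    rw [e]
    exact (isCompact_of_isConstructible hB'.compl).union
      ((isCompact_of_isConstructible hC'.compl).image j.continuous)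
  exact compl_compl (A ∪ j '' C) ▸ (hc.isConstructible hG.isOpen_compl).compl

theorem hasSectOver_comp (g₁ : Y₁ ⟶ Y₂) (g₂ : Y₂ ⟶ Y₃) {T : Scheme.{u}} (j : T ⟶ Y₃) [IsImmersion j]
    (s : T ⟶ Y₂) (hs : s ≫ g₂ = j) {D : Set Y₂} (h : HasSectOver g₁ D) :
    HasSectOver (g₁ ≫ g₂) (j '' (s ⁻¹' D)) := by
  obtain ⟨T₁, j₁, s₁, hj₁, hrange, hs₁⟩ := h
  refine ⟨pullback j₁ s, pullback.snd j₁ s ≫ j, pullback.fst j₁ s ≫ s₁, inferInstance, ?_, ?_⟩
  · show Set.range (pullback.snd j₁ s ≫ j) = _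
    rw [← hrange]
    have : Set.range (pullback.snd j₁ s ≫ j) = j '' Set.range (pullback.snd j₁ s) := by
      rw [← Set.range_comp]
      rfl
    rw [this, Scheme.Pullback.range_snd]
  · rw [Category.assoc, reassoc_of% hs₁, pullback.condition_assoc, hs]

set_option backward.isDefEq.respectTransparency.types false in
theorem isNisCoverLen_comp [CompactSpace Y₃] [QuasiSeparatedSpace Y₃] (g₁ : Y₁ ⟶ Y₂) (g₂ : Y₂ ⟶ Y₃)
    {m₁ m₂ : ℕ} (h₁ : IsNisCoverLen g₁ m₁) (h₂ : IsNisCoverLen g₂ m₂) :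
    IsNisCoverLen (g₁ ≫ g₂) (m₁ * m₂) := by
  obtain ⟨het₁, Z, hZ0, hZ1, hZm, hZ, hZs⟩ := h₁
  obtain ⟨het₂, P, hP0, hP1, hPm, hP, hPs⟩ := h₂
  choose T j s hj hjr hjs using hPs
  refine ⟨MorphismProperty.comp_mem _ _ _ het₁ het₂, ?_⟩
  rcases Nat.eq_zero_or_pos m₁ with hm | hm
  · subst hm
    have hP' : ∀ k, P k = ∅ := Fin.induction hP0 fun k ih => by
      have : IsEmpty Y₂ := by
        have h : (Set.univ : Set Y₂) = ∅ := hZ1.symm.trans hZ0
        exact ⟨fun y => h.subset (Set.mem_univ y)⟩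
      have : IsEmpty (T k) := Function.isEmpty (s k)
      have h := hjr k
      rw [Set.range_eq_empty] at h
      rw [← Set.subset_empty_iff]
      intro x hx
      by_cases hx' : x ∈ P k.castSucc
      · exact ih.subset hx'
      · exact h.symm.subset ⟨hx, hx'⟩
    refine ⟨fun _ => ∅, rfl, ?_, fun _ _ _ => subset_rfl, fun _ => ⟨isClosed_empty, .empty⟩, fun k => ?_⟩
    · rw [← hP1, hP']
    · exact absurd k.2 (by simp)
  -- `G q r` for `r ≤ m₁` interpolates between `P q` and `P (q + 1)`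
  let G : Fin m₂ → Fin (m₁ + 1) → Set Y₃ := fun q r => P q.castSucc ∪ j q '' (s q ⁻¹' Z r)
  have hjim : ∀ q, Set.range (j q) = P q.succ \ P q.castSucc := hjr
  have hG0 : ∀ q, G q 0 = P q.castSucc := fun q => by simp [G, hZ0]
  have hG1 : ∀ q, G q (Fin.last m₁) = P q.succ := fun q => by
    simp only [G, hZ1, Set.preimage_univ, Set.image_univ, hjim]
    exact Set.union_sdiff_cancel (hPm (Fin.castSucc_le_succ q))
  have hGcc : ∀ q r, IsClosed (G q r) ∧ IsConstructible (G q r) := fun q r =>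
    have : IsImmersion (j q) := hj q
    isClosed_isConstructible_union_image (j q) (hP _).1 (hP _).2 (hP _).1 (hP _).2
      (hPm (Fin.castSucc_le_succ q)) (hjim q) ((hZ r).1.preimage (s q).continuous)
      ((s q).isConstructible_preimage (hZ r).2)
  have hGd : ∀ q (r : Fin m₁), G q r.succ \ G q r.castSucc = j q '' (s q ⁻¹' (Z r.succ \ Z r.castSucc)) := by
    intro q r
    have : IsImmersion (j q) := hj q
    have hd : Disjoint (P q.castSucc) (j q '' (s q ⁻¹' Z r.succ)) :=
      Set.disjoint_left.mpr fun x hx h => ((hjim q).subset (Set.image_subset_range _ _ h)).2 hx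
    rw [Set.preimage_sdiff, Set.image_sdiff (j q).isEmbedding.injective]
    ext x
    simp only [G, Set.mem_sdiff, Set.mem_union]
    constructor
    · rintro ⟨h1 | h1, h2⟩
      · exact absurd (Or.inl h1) h2
      · exact ⟨h1, fun h => h2 (Or.inr h)⟩
    · rintro ⟨h1, h2⟩
      exact ⟨Or.inr h1, fun h => h.elim (fun h => Set.disjoint_left.mp hd h h1) h2⟩
  have hdiv : ∀ n : ℕ, n < m₁ * m₂ → n / m₁ < m₂ := fun n hn => Nat.div_lt_of_lt_mul hn
  let F : Fin (m₁ * m₂ + 1) → Set Y₃ := fun n =>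
    if h : (n : ℕ) < m₁ * m₂ then G ⟨_, hdiv n h⟩ ⟨n % m₁, (Nat.mod_lt _ hm).trans (Nat.lt_succ_self _)⟩
    else Set.univ
  have hstep : ∀ n : Fin (m₁ * m₂), ∃ (q : Fin m₂) (r : Fin m₁),
      F n.castSucc = G q r.castSucc ∧ F n.succ = G q r.succ := by
    intro n
    refine ⟨⟨_, hdiv n n.2⟩, ⟨n % m₁, Nat.mod_lt _ hm⟩, by simp [F, n.2], ?_⟩
    have hd : m₁ * ((n : ℕ) / m₁) + (n : ℕ) % m₁ = n := Nat.div_add_mod _ _
    have hr := Nat.mod_lt (n : ℕ) hm
    rcases Nat.lt_or_ge ((n : ℕ) % m₁ + 1) m₁ with hlt | hge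
    · have hq : ((n : ℕ) + 1) / m₁ = (n : ℕ) / m₁ :=
        Nat.div_eq_of_lt_le (by rw [Nat.mul_comm ((n : ℕ) / m₁) m₁]; omega)
          (by rw [add_mul, one_mul, Nat.mul_comm ((n : ℕ) / m₁) m₁]; omega)
      have hlt' : (n : ℕ) + 1 < m₁ * m₂ := by
        have := Nat.mul_le_mul_left m₁ (hdiv n n.2 : (n : ℕ) / m₁ + 1 ≤ m₂)
        rw [Nat.mul_succ] at this
        omega
      have hr' : ((n : ℕ) + 1) % m₁ = (n : ℕ) % m₁ + 1 := by
        have := Nat.div_add_mod ((n : ℕ) + 1) m₁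
        rw [hq] at this
        omega
      simp only [F, Fin.val_succ, dif_pos hlt', hq, hr']
      rfl
    · have hq : (n : ℕ) + 1 = m₁ * ((n : ℕ) / m₁ + 1) := by rw [Nat.mul_add, Nat.mul_one]; omega
      have e : (⟨(n : ℕ) % m₁, hr⟩ : Fin m₁).succ = Fin.last m₁ := Fin.ext (by simp; omega)
      rw [e, hG1]
      by_cases hlt' : (n : ℕ) + 1 < m₁ * m₂
      · simp only [F, Fin.val_succ, dif_pos hlt']
        have e1 : ((n : ℕ) + 1) / m₁ = (n : ℕ) / m₁ + 1 := by rw [hq, Nat.mul_div_cancel_left _ hm]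
        have e2 : ((n : ℕ) + 1) % m₁ = 0 := by rw [hq, Nat.mul_mod_right]
        simp only [e1, e2]
        exact (hG0 _).trans (congrArg P (Fin.ext rfl))
      · simp only [F, Fin.val_succ, dif_neg hlt']
        have : (n : ℕ) / m₁ + 1 = m₂ := by
          have h1 : (n : ℕ) + 1 = m₁ * m₂ := by omega
          exact Nat.eq_of_mul_eq_mul_left hm (hq.symm.trans h1)
        rw [← hP1]
        exact congrArg P (Fin.ext (by simpa using this.symm))
  refine ⟨F, ?_, by simp [F], Fin.monotone_iff_le_succ.mpr fun n => ?_, fun n => ?_, fun n => ?_⟩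
  · by_cases h : 0 < m₁ * m₂
    · simp only [F, Fin.val_zero, dif_pos h, Nat.zero_div, Nat.zero_mod]
      refine (hG0 _).trans ((congrArg P (Fin.ext rfl)).trans hP0)
    · have hm2 : m₂ = 0 := by
        rcases Nat.eq_zero_or_pos m₂ with h2 | h2
        · exact h2
        · exact absurd (Nat.mul_pos hm h2) h
      simp only [F, Fin.val_zero, dif_neg h]
      rw [← hP1, show Fin.last m₂ = 0 from Fin.ext hm2, hP0]
  · obtain ⟨q, r, h1, h2⟩ := hstep n
    rw [h1, h2]
    exact Set.union_subset_union_right _ (Set.image_mono (Set.preimage_mono (hZm (Fin.castSucc_le_succ r))))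
  · by_cases h : (n : ℕ) < m₁ * m₂
    · simp only [F, dif_pos h]
      exact hGcc _ _
    · simp only [F, dif_neg h]
      exact ⟨isClosed_univ, .univ⟩
  · obtain ⟨q, r, h1, h2⟩ := hstep n
    have : IsImmersion (j q) := hj q
    rw [h1, h2, hGd]
    exact hasSectOver_comp g₁ g₂ (j q) (s q) (hjs q) (hZs r)

end Comp

end

end Groth.Agent.AlgzPiLib
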