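import Groth.Agent.AlgzPiLib.PiPoints
import Groth.Agent.AlgzPiLib.NisCover
import Mathlib.AlgebraicGeometry.PullbackCarrier

/-!
Uniform bounds for affine covers of base changes, and affine refinements of Nisnevich covers.
-/

set_option autoImplicit false

universe u

open CategoryTheory AlgebraicGeometry

namespace Groth.Agent.AlgzPiLib

noncomputable section

theorem exists_uniform_affine_cover {W Y : Scheme.{u}} (j : W ⟶ Y) [QuasiCompact j] [CompactSpace Y] :
    ∃ m : ℕ, ∀ (B : CommRingCat.{u}) (g : Spec B ⟶ Y),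
      ∃ U : Fin m → (Limits.pullback j g).Opens, (∀ k, IsAffineOpen (U k)) ∧ ⨆ k, U k = ⊤ := by
  classical
  obtain ⟨u, hu⟩ := isCompact_univ.elim_finite_subcover
    (fun V : Y.affineOpens => ((V : Y.Opens) : Set Y)) (fun V => (V : Y.Opens).2) (fun y _ => by
      obtain ⟨_, ⟨V, hV, rfl⟩, hy, -⟩ := Y.isBasis_affineOpens.exists_subset_of_mem_open (Set.mem_univ y) isOpen_univ
      exact Set.mem_iUnion.mpr ⟨⟨V, hV⟩, hy⟩)
  have hcov : ∀ k : u, ∃ t : Finset W.affineOpens, (∀ U ∈ t, (U : W.Opens) ≤ j ⁻¹ᵁ (k.1 : Y.Opens)) ∧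
      ∀ w, j w ∈ (k.1 : Y.Opens) → ∃ U ∈ t, w ∈ (U : W.Opens) := by
    intro k
    obtain ⟨t, ht⟩ := (QuasiCompact.isCompact_preimage (f := j) _ k.1.1.2 k.1.2.isCompact).elim_finite_subcover
      (fun U : {U : W.affineOpens // (U : W.Opens) ≤ j ⁻¹ᵁ (k.1 : Y.Opens)} => ((U.1 : W.Opens) : Set W))
      (fun U => (U.1 : W.Opens).2) (fun w hw => by
        obtain ⟨_, ⟨U, hU, rfl⟩, hwU, hle⟩ :=
          W.isBasis_affineOpens.exists_subset_of_mem_open hw (j ⁻¹ᵁ (k.1 : Y.Opens)).2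
        exact Set.mem_iUnion.mpr ⟨⟨⟨U, hU⟩, hle⟩, hwU⟩)
    refine ⟨t.image Subtype.val, fun U hU => ?_, fun w hw => ?_⟩
    · obtain ⟨U', -, rfl⟩ := Finset.mem_image.mp hU
      exact U'.2
    · obtain ⟨U, hU, hwU⟩ := Set.mem_iUnion₂.mp (ht hw)
      exact ⟨U.1, Finset.mem_image.mpr ⟨U, hU, rfl⟩, hwU⟩
  choose t ht hwt using hcov
  let I := Σ k : u, t k
  refine ⟨Fintype.card I, fun B g => ?_⟩
  obtain ⟨b, hb, hmem⟩ := Groth.Agent.AlgzPiLib.exists_partition (fun k : u => (k.1 : Y.Opens))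
    (top_unique fun y _ => by
      obtain ⟨k, hk, hy⟩ := Set.mem_iUnion₂.mp (hu (Set.mem_univ y))
      exact TopologicalSpace.Opens.mem_iSup.mpr ⟨⟨k, hk⟩, hy⟩) g
  let D : u → (Spec B).Opens := fun k => PrimeSpectrum.basicOpen (b k)
  let P : I → (Limits.pullback j g).Opens := fun i =>
    (Limits.pullback.fst j g) ⁻¹ᵁ (i.2.1 : W.Opens) ⊓ (Limits.pullback.snd j g) ⁻¹ᵁ D i.1
  have haff : ∀ i, IsAffineOpen (P i) := by
    intro i
    let jU := IsOpenImmersion.lift (i.1.1 : Y.Opens).ι ((i.2.1 : W.Opens).ι ≫ j) (by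
      rintro _ ⟨w, rfl⟩
      show j ((i.2.1 : W.Opens).ι w) ∈ Set.range (i.1.1 : Y.Opens).ι
      rw [Scheme.Opens.range_ι]
      exact ht i.1 _ i.2.2 w.2)
    let gD := IsOpenImmersion.lift (i.1.1 : Y.Opens).ι ((D i.1).ι ≫ g) (by
      rintro _ ⟨q, rfl⟩
      show g ((D i.1).ι q) ∈ Set.range (i.1.1 : Y.Opens).ι
      rw [Scheme.Opens.range_ι]
      exact hmem i.1 q.1 q.2)
    have _ : IsAffine (i.2.1 : W.Opens) := i.2.1.2
    have _ : IsAffine (D i.1) := IsAffineOpen.Spec_basicOpen (b i.1)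
    have _ : IsAffine (i.1.1 : Y.Opens) := i.1.1.2
    let φ := Limits.pullback.map jU gD j g (i.2.1 : W.Opens).ι (D i.1).ι (i.1.1 : Y.Opens).ι
      (IsOpenImmersion.lift_fac _ _ _) (IsOpenImmersion.lift_fac _ _ _)
    have h := isAffineOpen_opensRange φ
    have hrange : φ.opensRange = P i := TopologicalSpace.Opens.ext (by
      show Set.range φ = _
      rw [Scheme.Pullback.range_map, Scheme.Opens.range_ι, Scheme.Opens.range_ι]
      rfl)
    exact hrange ▸ h
  refine ⟨fun k => P ((Fintype.equivFin I).symm k), fun k => haff _, top_unique fun z _ => ?_⟩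
  have hz : ∃ k : u, Limits.pullback.snd j g z ∈ D k := by
    by_contra hne
    refine (Limits.pullback.snd j g z).isPrime.ne_top (top_unique (hb.ge.trans (Ideal.span_le.mpr ?_)))
    rintro _ ⟨k, rfl⟩
    exact not_not.mp fun h => hne ⟨k, h⟩
  obtain ⟨k, hk⟩ := hz
  have hzW : j (Limits.pullback.fst j g z) ∈ (k.1 : Y.Opens) := by
    have : j (Limits.pullback.fst j g z) = g (Limits.pullback.snd j g z) :=
      congr($(Limits.pullback.condition (f := j) (g := g)) z)
    rw [this]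
    exact hmem k _ hk
  obtain ⟨U, hU, hzU⟩ := hwt k _ hzW
  exact TopologicalSpace.Opens.mem_iSup.mpr ⟨Fintype.equivFin I ⟨k, ⟨U, hU⟩⟩, by
    show z ∈ P ((Fintype.equivFin I).symm _)
    rw [Equiv.symm_apply_apply]; exact ⟨hzU, hk⟩⟩

set_option backward.isDefEq.respectTransparency.types false in
theorem exists_uniform_affine_nisCover {U Y : Scheme.{u}} [IsAffine U] [CompactSpace Y] [QuasiSeparatedSpace Y]
    (f : U ⟶ Y) {m' : ℕ} (hf : W4c5algebraiztannaka.IsNisCoverLen f m') :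
    ∃ m : ℕ, ∀ (B : CommRingCat.{u}) (g : Spec B ⟶ Y),
      ∃ (V : Scheme.{u}) (_ : IsAffine V) (v : V ⟶ Spec B) (w : V ⟶ U),
        W4c5algebraiztannaka.IsNisCoverLen v m ∧ w ≫ f = v ≫ g := by
  have : QuasiCompact f := quasiCompact_of_compactSpace f
  have : QuasiSeparated f := inferInstance
  obtain ⟨m₀, h₀⟩ := exists_uniform_affine_cover f
  refine ⟨m₀ * m', fun B g => ?_⟩
  obtain ⟨O, hO, hcov⟩ := h₀ B g
  have : CompactSpace (Limits.pullback f g : Scheme.{u}) :=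
    QuasiCompact.compactSpace_of_compactSpace (Limits.pullback.snd f g)
  have : QuasiSeparatedSpace (Limits.pullback f g : Scheme.{u}) :=
    quasiSeparatedSpace_of_quasiSeparated (Limits.pullback.snd f g)
  have : ∀ i, IsAffine (O i : Scheme.{u}) := hO
  refine ⟨∐ fun i => ((O i : (Limits.pullback f g).Opens) : Scheme.{u}), inferInstance,
    Limits.Sigma.desc (fun i => (O i).ι) ≫ Limits.pullback.snd f g,
    Limits.Sigma.desc (fun i => (O i).ι) ≫ Limits.pullback.fst f g,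
    isNisCoverLen_comp _ _ (isNisCoverLen_sigma_desc m₀ O (fun i => (hO i).isCompact) hcov)
      (isNisCoverLen_pullback_snd f g hf), ?_⟩
  rw [Category.assoc, Category.assoc, Limits.pullback.condition]

end

end Groth.Agent.AlgzPiLib
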