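import Groth.Agent.AlgzPiLib.TuplesQc
import Groth.Agent.Desc19b.HensSp.Lift
import Groth.Agent.AlgSpLib.UnivBdd
import Groth.Agent.AlgSpLib.Filtration
import Groth.Agent.S10647

/-!
A quasi-compact quasi-separated algebraic space has one affine etale chart through which all field valued
points lift without extending the field.
-/

set_option autoImplicit false

universe u

open CategoryTheory CategoryTheory.Limits AlgebraicGeometry Opposite
open AlgSp Groth.Agent.AlgSpLib Groth.Agent.Desc19b.HensSp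

noncomputable section

namespace Groth.Agent.AlgzPiLib

set_option backward.isDefEq.respectTransparency.types false
set_option backward.isDefEq.respectTransparency false

variable {S : Scheme.{u}} {X : Sp S}

/-- an affine etale chart of a qcqs space has bounded fibres -/
theorem hasUnivBdd_chart [QuasiSeparatedSpace ↥S] (hX : IsAlgSpace X) (hqs : IsQuasiSeparatedSp X)
    {U : Over S} [IsAffine U.left] (a : (yon S).obj U ⟶ X) (ha : RepWith @Etale a) (has : RepWith @Surjective a) :
    W4dec.HasUnivBddFibres a := by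
  have hq := repWith_qc_chart hX hqs a
  let P : Over S := ha.1.pullback a
  let t₂ : P ⟶ U := ha.1.snd a
  have sq := ha.1.isPullback a
  obtain ⟨t₁, ht₁⟩ := (yon S).map_surjective (ha.1.fst a)
  rw [← ht₁] at sq
  have : Etale t₂.left := ha.property _ _ _ sq
  have : QuasiCompact t₂.left := hq.property _ _ _ sq
  have : CompactSpace ↥P.left := QuasiCompact.compactSpace_of_compactSpace t₂.left
  obtain ⟨N, hN⟩ := univBdd_etale_scheme (IsAlgSpace.yon_obj (S := S) U) t₂
  refine ⟨N, degFibresLE_of_baseChange hX sq (fun x _ => ?_) hN⟩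
  obtain ⟨u, hu⟩ := surjective_ofPt a has x
  exact ⟨Points.ofScheme U u, (Points.ofPt_eq_map_ofScheme a u).symm.trans hu⟩

/-- sections of a finite scheme over a field are determined by their point -/
theorem section_eq_of_point {K : Type u} [Field K] {T : Scheme.{u}} (c : T ⟶ Spec (CommRingCat.of K)) [IsFinite c]
    (s s' : Spec (CommRingCat.of K) ⟶ T) (h : s ≫ c = 𝟙 _) (h' : s' ≫ c = 𝟙 _)
    (hp : s (IsLocalRing.closedPoint K) = s' (IsLocalRing.closedPoint K)) : s = s' := by
  obtain ⟨D, _, _, _, e, he, -⟩ := exists_algebra_of_isFinite c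
  obtain ⟨ψ, hψ⟩ := Spec.map_surjective (s ≫ e.hom)
  obtain ⟨ψ', hψ'⟩ := Spec.map_surjective (s' ≫ e.hom)
  have key : ∀ (t : Spec (CommRingCat.of K) ⟶ T) (φ : CommRingCat.of D ⟶ CommRingCat.of K),
      Spec.map φ = t ≫ e.hom → t ≫ c = 𝟙 _ → ∀ r : K, φ.hom (algebraMap K D r) = r := by
    intro t φ hφ ht r
    have h1 : Spec.map (CommRingCat.ofHom (algebraMap K D) ≫ φ) = Spec.map (𝟙 (CommRingCat.of K)) := by
      rw [Spec.map_comp, hφ, Category.assoc, he, ht, Spec.map_id]
    exact DFunLike.congr_fun (congrArg CommRingCat.Hom.hom (Spec.map_injective h1)) r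
  have hker : RingHom.ker ψ.hom = RingHom.ker ψ'.hom := by
    have h1 : (Spec.map ψ) (IsLocalRing.closedPoint K) = (Spec.map ψ') (IsLocalRing.closedPoint K) := by
      rw [hψ, hψ', Scheme.Hom.comp_apply, Scheme.Hom.comp_apply, hp]
    have h2 : Ideal.comap ψ.hom (IsLocalRing.maximalIdeal K) = Ideal.comap ψ'.hom (IsLocalRing.maximalIdeal K) :=
      congrArg PrimeSpectrum.asIdeal h1
    rw [IsLocalRing.maximalIdeal_eq_bot] at h2
    exact h2
  refine (cancel_mono e.hom).1 (hψ.symm.trans ((congrArg Spec.map (CommRingCat.hom_ext (RingHom.ext fun d => ?_))).trans hψ'))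
  have hm : d - algebraMap K D (ψ.hom d) ∈ RingHom.ker ψ.hom := by
    rw [RingHom.mem_ker, map_sub, key s ψ hψ h, sub_self]
  rw [hker, RingHom.mem_ker, map_sub, key s' ψ' hψ' h', sub_eq_zero] at hm
  exact hm.symm

/-- the number of distinct lifts of a field point is bounded -/
theorem card_lifts_le (hX : IsAlgSpace X) {U : Over S} (a : (yon S).obj U ⟶ X) {N : ℕ} (hN : W4dec.DegFibresLE N a)
    {K : Type u} [Field K] (strK : Spec (CommRingCat.of K) ⟶ S) (x : (yon S).obj (Over.mk strK) ⟶ X)
    {n : ℕ} (F : Fin n → (Over.mk strK ⟶ U)) (hF : ∀ i, (yon S).map (F i) ≫ a = x)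
    (hinj : Function.Injective fun i => (F i).left) : n ≤ N := by
  let q : FieldPt X := ⟨K, strK, (J S).uliftYonedaEquiv.{u + 1} x⟩
  have hq : q.toHom = x := (J S).uliftYonedaEquiv.{u + 1}.symm_apply_apply x
  have hr := hX.representable_from_yon q.toHom
  obtain ⟨c, hc⟩ := (yon S).map_surjective (hr.fst a)
  have sq : IsPullback ((yon S).map c) ((yon S).map (hr.snd a)) q.toHom a := hc ▸ hr.isPullback a
  have hdeg := hN q _ c _ sq
  have : IsFinite c.left := hdeg.1
  obtain ⟨hfin, hcard⟩ := card_le_of_degLE (c := c.left) hdeg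
  have hw : ∀ i, (yon S).map (𝟙 q.pt) ≫ q.toHom = (yon S).map (F i) ≫ a := fun i => by
    rw [hq, CategoryTheory.Functor.map_id, hF]
    exact Category.id_comp _
  choose s hs using fun i => (yon S).map_surjective (sq.lift ((yon S).map (𝟙 q.pt)) ((yon S).map (F i)) (hw i))
  have hs1 : ∀ i, s i ≫ c = 𝟙 _ := fun i => (yon S).map_injective (by rw [Functor.map_comp, hs, sq.lift_fst])
  have hs2 : ∀ i, s i ≫ hr.snd a = F i := fun i => (yon S).map_injective (by rw [Functor.map_comp, hs, sq.lift_snd])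
  have := Nat.card_le_card_of_injective (fun i => (s i).left (IsLocalRing.closedPoint K)) fun i j hij => by
    refine hinj ?_
    show (F i).left = (F j).left
    rw [← hs2 i, ← hs2 j, Over.comp_left, Over.comp_left,
      section_eq_of_point c.left (s i).left (s j).left (congrArg CommaMorphism.left (hs1 i))
        (congrArg CommaMorphism.left (hs1 j)) hij]
  rw [Nat.card_fin] at this
  exact this.trans hcard

/-- one affine etale chart through which all field valued points lift -/
theorem exists_rat_chart [QuasiSeparatedSpace ↥S] (Xs : Space S) (hqc : IsQuasiCompactSp Xs.obj)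
    (hqs : IsQuasiSeparatedSp Xs.obj) :
    ∃ (V : Over S) (f : (yon S).obj V ⟶ Xs.obj), IsAffine V.left ∧ RepWith @Etale f ∧
      ∀ (k : Type u) [Field k] (str : Spec (CommRingCat.of k) ⟶ S) (x : (yon S).obj (Over.mk str) ⟶ Xs.obj),
        ∃ v : Over.mk str ⟶ V, (yon S).map v ≫ f = x := by
  classical
  have hX := Xs.property
  obtain ⟨U, a, hU, ha, has⟩ := Groth.Agent.S10647.exists_affine_atlas Xs hqc
  have := hU
  have hq := repWith_qc_chart hX hqs a
  obtain ⟨N, hN⟩ := hasUnivBdd_chart hX hqs a ha has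
  choose W V q c f p hf hVc hpf hc huniv hrel using fun n : Fin (N + 1) => exists_tuples_quot_qc hX a ha n.1
  have : ∀ n, CompactSpace ↥(V n).left := fun n => hVc n hq
  let ι : Type u := Σ n : ULift.{u} (Fin (N + 1)), (V n.down).left.affineCover.finiteSubcover.I₀
  have : Finite ι := inferInstance
  let C : ∀ i : ι, ((V i.1.down).left.affineCover.finiteSubcover).X i.2 ⟶ (V i.1.down).left := fun i =>
    (V i.1.down).left.affineCover.finiteSubcover.f i.2
  let V' : ι → Over S := fun i => Over.mk (C i ≫ (V i.1.down).hom)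
  let j : ∀ i, V' i ⟶ V i.1.down := fun i => Over.homMk (C i) rfl
  have hjo : ∀ i, IsOpenImmersion (j i).left := fun i => inferInstanceAs (IsOpenImmersion (C i))
  let f' : ∀ i, (yon S).obj (V' i) ⟶ Xs.obj := fun i => (yon S).map (j i) ≫ f i.1.down
  have hf' : ∀ i, RepWith @Etale (f' i) := fun i =>
    haveI := hjo i
    RepWith.comp ((repWith_yon_map_iff @Etale _).2 (inferInstance : Etale (j i).left)) (hf _)
  have : ∀ i, IsAffine (V' i).left := fun i =>
    inferInstanceAs (IsAffine ((V i.1.down).left.affineCover.X _))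
  obtain ⟨g, hg, -⟩ := existsUnique_desc_sigma V' f'
  refine ⟨sigmaOver V', g, inferInstanceAs (IsAffine (∐ fun i => (V' i).left)),
    repWith_etale_desc hX V' f' hf' g hg, fun k _ str x => ?_⟩
  obtain ⟨n, K, _, _, _, F, hF, hinj, hst⟩ := exists_stable_lifts a ha x (by
    obtain ⟨u, hu⟩ := surjective_ofPt a has (ptOfHom x); exact ⟨u, hu⟩)
  have hnN : n < N + 1 := by
    have h1 := card_lifts_le hX a hN _ ((yon S).map (specHom str K) ≫ x) F hF (fun i i' h => hinj K (𝟙 _) (by
      show 𝟙 _ ≫ (F i).left = 𝟙 _ ≫ (F i').left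
      rw [show (F i).left = (F i').left from h]))
    omega
  obtain ⟨v, hv⟩ := exists_rat_lift a (q ⟨n, hnN⟩) (c ⟨n, hnN⟩) (f ⟨n, hnN⟩) (p ⟨n, hnN⟩) (hpf _) (hc _)
    (huniv _) (hrel _) x F hF hinj hst
  let 𝒰 := (V ⟨n, hnN⟩).left.affineCover.finiteSubcover
  obtain ⟨i₀, hi₀⟩ := 𝒰.exists_eq (v.left (IsLocalRing.closedPoint k))
  let i : ι := ⟨⟨⟨n, hnN⟩⟩, i₀⟩
  have hr : Set.range v.left ⊆ Set.range (j i).left := by
    rintro _ ⟨z, rfl⟩
    rw [Subsingleton.elim (α := ↥(Spec (CommRingCat.of k))) z (IsLocalRing.closedPoint k)]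
    exact hi₀
  haveI := hjo i
  let v' : Over.mk str ⟶ V' i := Over.homMk (IsOpenImmersion.lift (j i).left v.left hr) (by
    rw [← Over.w (j i), ← Category.assoc, IsOpenImmersion.lift_fac]; exact Over.w v)
  refine ⟨v' ≫ sigmaOverι V' i, ?_⟩
  rw [Functor.map_comp, Category.assoc, hg, ← Category.assoc, ← Functor.map_comp,
    show v' ≫ j i = v from Over.OverMorphism.ext (IsOpenImmersion.lift_fac _ _ _)]
  exact hv

end Groth.Agent.AlgzPiLib
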