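import Groth.Agent.Coherent.FiniteType
import Groth.Prelude.Def_FlatMod2
import Mathlib.AlgebraicGeometry.Modules.Tilde

/-!
Counting generators of a finite module from generators over the opens of a finite cover.
-/

set_option autoImplicit false

universe u

open CategoryTheory CategoryTheory.Limits AlgebraicGeometry Opposite TopologicalSpace

namespace Groth.Agent.AlgzPiLib

section Algebra

variable {R : Type u} [CommRing R] {M : Type u} [AddCommGroup M] [Module R M]

/-- `N` generates `M` at the prime `p`. -/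
def GenAt (N : Submodule R M) (p : PrimeSpectrum R) : Prop :=
  ∀ x : M, ∃ g : R, g ∉ p.asIdeal ∧ g • x ∈ N

/-- Compatible fractions `m a / a ^ e` generating `M` on the basic opens inside `U`. -/
def LocalGen (U : Set (PrimeSpectrum R)) (n : ℕ) (M : Type u) [AddCommGroup M] [Module R M] : Prop :=
  ∀ s : Finset R, (∀ a ∈ s, (PrimeSpectrum.basicOpen a : Set (PrimeSpectrum R)) ⊆ U) →
    ∃ (e : ℕ) (m : R → Fin n → M), (∀ a ∈ s, ∀ b ∈ s, ∀ j, b ^ e • m a j = a ^ e • m b j) ∧
      ∀ a ∈ s, ∀ p ∈ PrimeSpectrum.basicOpen a, GenAt (Submodule.span R (Set.range (m a))) p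

theorem GenAt.mono {N N' : Submodule R M} (h : N ≤ N') {p : PrimeSpectrum R} (hp : GenAt N p) :
    GenAt N' p := fun x => by
  obtain ⟨g, hg, hx⟩ := hp x
  exact ⟨g, hg, h hx⟩

theorem isOpen_genAt [Module.Finite R M] (N : Submodule R M) : IsOpen {p | GenAt N p} := by
  refine isOpen_iff_forall_mem_open.mpr fun p hp => ?_
  obtain ⟨t, ht⟩ := Module.Finite.fg_top (R := R) (M := M)
  choose g hg hgx using hp
  refine ⟨PrimeSpectrum.basicOpen (∏ x ∈ t, g x), fun q hq x => ⟨∏ x ∈ t, g x, hq, ?_⟩,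
    (PrimeSpectrum.basicOpen _).2, fun h => ?_⟩
  · suffices h : Submodule.span R (t : Set M) ≤ Submodule.comap (LinearMap.lsmul R M (∏ x ∈ t, g x)) N by
      exact h (ht ▸ Submodule.mem_top)
    refine Submodule.span_le.mpr fun y hy => ?_
    obtain ⟨c, hc⟩ := Finset.dvd_prod_of_mem g hy
    show (∏ x ∈ t, g x) • y ∈ N
    rw [hc, mul_comm, mul_smul]
    exact N.smul_mem _ (hgx y)
  · obtain ⟨x, -, hx⟩ := (Ideal.IsPrime.prod_mem_iff).mp h
    exact hg x hx

theorem exists_genAt_of_isClosed {U : Opens (PrimeSpectrum R)} {n : ℕ} (h : LocalGen (R := R) (U : Set (PrimeSpectrum R)) n M)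
    {C : Set (PrimeSpectrum R)} (hC : IsClosed C) (hCU : C ⊆ U) :
    ∃ μ : Fin n → M, ∀ p ∈ C, GenAt (Submodule.span R (Set.range μ)) p := by
  classical
  obtain ⟨J, rfl⟩ := (PrimeSpectrum.isClosed_iff_zeroLocus_ideal C).mp hC
  obtain ⟨t, ht⟩ := (hC.isCompact).elim_finite_subcover
    (fun a : {a : R // (PrimeSpectrum.basicOpen a : Set (PrimeSpectrum R)) ⊆ U} =>
      (PrimeSpectrum.basicOpen a.1 : Set (PrimeSpectrum R))) (fun a => (PrimeSpectrum.basicOpen a.1).2)
    (fun p hp => by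
      obtain ⟨_, ⟨_, ⟨a, rfl⟩, rfl⟩, hpa, haU⟩ :=
        PrimeSpectrum.isBasis_basic_opens.exists_subset_of_mem_open (hCU hp) U.2
      exact Set.mem_iUnion.mpr ⟨⟨a, haU⟩, hpa⟩)
  let s : Finset R := t.image Subtype.val
  obtain ⟨e, m, hm, hgen⟩ := h s fun a ha => by
    obtain ⟨a', -, rfl⟩ := Finset.mem_image.mp ha
    exact a'.2
  have htop : J ⊔ Ideal.span ((fun a => a ^ e) '' (s : Set R)) = ⊤ := by
    by_contra hne
    obtain ⟨q, hq, hle⟩ := Ideal.exists_le_maximal _ hne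
    have hqJ : (⟨q, hq.isPrime⟩ : PrimeSpectrum R) ∈ PrimeSpectrum.zeroLocus (J : Set R) :=
      fun x hx => hle (Ideal.mem_sup_left hx)
    obtain ⟨a, hat, ha⟩ := Set.mem_iUnion₂.mp (ht hqJ)
    refine ha (hq.isPrime.mem_of_pow_mem e (hle (Ideal.mem_sup_right (Ideal.subset_span
      ⟨a.1, Finset.mem_image.mpr ⟨a, hat, rfl⟩, rfl⟩))))
  obtain ⟨j, hj, z, hz, hjz⟩ := Submodule.mem_sup.mp ((Ideal.eq_top_iff_one _).mp htop)
  rw [← Finset.coe_image, Ideal.span] at hz
  obtain ⟨c, hc⟩ : ∃ c : R → R, ∑ a ∈ s, c a * a ^ e = z := by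
    rw [Finset.coe_image] at hz
    obtain ⟨c, hc, hcz⟩ := (Finsupp.mem_span_image_iff_linearCombination R).mp hz
    refine ⟨c, ?_⟩
    rw [← hcz, Finsupp.linearCombination_apply, Finsupp.sum_of_support_subset c hc]
    · simp
    · simp
  refine ⟨fun i => ∑ a ∈ s, c a • m a i, fun p hp x => ?_⟩
  obtain ⟨b, hbt, hb⟩ := Set.mem_iUnion₂.mp (ht hp)
  have hbs : b.1 ∈ s := Finset.mem_image.mpr ⟨b, hbt, rfl⟩
  obtain ⟨g, hg, hx⟩ := hgen b.1 hbs p hb x
  refine ⟨(1 - j) * g, fun hmem => ?_, ?_⟩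
  · rcases p.isPrime.mem_or_mem hmem with h1 | h1
    · exact p.isPrime.ne_top ((Ideal.eq_top_iff_one _).mpr (by simpa using add_mem h1 (hp hj)))
    · exact hg h1
  rw [mul_smul]
  suffices hle : Submodule.span R (Set.range (m b.1)) ≤
      Submodule.comap (LinearMap.lsmul R M (1 - j))
        (Submodule.span R (Set.range fun i => ∑ a ∈ s, c a • m a i)) from hle hx
  refine Submodule.span_le.mpr ?_
  rintro _ ⟨i, rfl⟩
  have key : b.1 ^ e • (∑ a ∈ s, c a • m a i) = (1 - j) • m b.1 i := by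
    rw [show (1 : R) - j = z by rw [← hjz]; ring, ← hc, Finset.sum_smul, Finset.smul_sum]
    refine Finset.sum_congr rfl fun a ha => ?_
    rw [smul_comm, hm a ha b.1 hbs i, mul_smul]
  simp only [SetLike.mem_coe, Submodule.mem_comap, LinearMap.lsmul_apply]
  rw [← key]
  exact Submodule.smul_mem _ _ (Submodule.subset_span ⟨i, rfl⟩)

theorem exists_generators_of_cover [Module.Finite R M] {n m : ℕ} (U : Fin m → Opens (PrimeSpectrum R))
    (hU : ⨆ i, U i = ⊤) (h : ∀ i, LocalGen (R := R) (U i : Set (PrimeSpectrum R)) n M) :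
    ∃ s : Fin (n * m) → M, Submodule.span R (Set.range s) = ⊤ := by
  suffices H : ∀ k, k ≤ m → ∃ s : Fin (n * k) → M, ∀ p : PrimeSpectrum R,
      GenAt (Submodule.span R (Set.range s)) p ∨ ∃ i : Fin m, (i : ℕ) + k < m ∧ p ∈ U i by
    obtain ⟨s, hs⟩ := H m le_rfl
    refine ⟨s, eq_top_iff.mpr fun x _ => ?_⟩
    by_contra hx
    let I : Ideal R := (Submodule.span R (Set.range s)).colon {x}
    obtain ⟨q, hq, hle⟩ := Ideal.exists_le_maximal I (fun hI => hx (by
      have h1 : (1 : R) ∈ I := hI ▸ Submodule.mem_top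
      simpa using Submodule.mem_colon_singleton.mp h1))
    rcases hs ⟨q, hq.isPrime⟩ with hp | ⟨i, hi, -⟩
    · obtain ⟨g, hg, hgx⟩ := hp x
      exact hg (hle (Submodule.mem_colon_singleton.mpr hgx))
    · omega
  intro k
  induction k with
  | zero =>
    intro _
    refine ⟨fun i => Fin.elim0 (Fin.cast (Nat.mul_zero n) i), fun p => Or.inr ?_⟩
    obtain ⟨i, hi⟩ := Opens.mem_iSup.mp (show p ∈ ⨆ i, U i by rw [hU]; trivial)
    exact ⟨i, by simp, hi⟩
  | succ k ih =>
    intro hk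
    obtain ⟨s, hs⟩ := ih (by omega)
    let i₀ : Fin m := ⟨m - (k + 1), by omega⟩
    let C : Set (PrimeSpectrum R) := {p | ¬(GenAt (Submodule.span R (Set.range s)) p ∨
      ∃ i : Fin m, (i : ℕ) + (k + 1) < m ∧ p ∈ U i)}
    have hC : IsClosed C := by
      rw [← isOpen_compl_iff]
      have : Cᶜ = {p | GenAt (Submodule.span R (Set.range s)) p} ∪
          ⋃ (i : Fin m) (_ : (i : ℕ) + (k + 1) < m), (U i : Set (PrimeSpectrum R)) := by
        ext p
        simp [C, imp_iff_not_or]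
      rw [this]
      exact (isOpen_genAt _).union (isOpen_iUnion fun i => isOpen_iUnion fun _ => (U i).2)
    have hCU : C ⊆ U i₀ := by
      intro p hp
      rcases hs p with h1 | ⟨i, hi, hpi⟩
      · exact absurd (Or.inl h1) hp
      · rcases Nat.lt_or_ge ((i : ℕ) + (k + 1)) m with h2 | h2
        · exact absurd (Or.inr ⟨i, h2, hpi⟩) hp
        · have : i = i₀ := Fin.ext (by simp [i₀]; omega)
          exact this ▸ hpi
    obtain ⟨μ, hμ⟩ := exists_genAt_of_isClosed (h i₀) hC hCU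
    refine ⟨fun i => Fin.append s μ (Fin.cast (Nat.mul_succ n k) i), fun p => ?_⟩
    have hr : Set.range (fun i => Fin.append s μ (Fin.cast (Nat.mul_succ n k) i)) =
        Set.range (Fin.append s μ) :=
      (Fin.castOrderIso (Nat.mul_succ n k)).surjective.range_comp _
    rw [hr]
    by_cases hp : p ∈ C
    · refine Or.inl ((hμ p hp).mono (Submodule.span_mono ?_))
      rintro _ ⟨i, rfl⟩
      exact ⟨Fin.natAdd _ i, Fin.append_right _ _ _⟩
    · rcases not_not.mp hp with h1 | h2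
      · refine Or.inl (h1.mono (Submodule.span_mono ?_))
        rintro _ ⟨i, rfl⟩
        exact ⟨Fin.castAdd _ i, Fin.append_left _ _ _⟩
      · exact Or.inr h2

end Algebra

section Tilde

open Groth.Agent.Coherent

variable {R : CommRingCat.{u}} (M : ModuleCat.{u} R)

/-- Basic opens, typed as opens of the scheme `Spec R`. -/
abbrev bo (a : R) : (Spec R).Opens := PrimeSpectrum.basicOpen a

/-- Sections of `M~` coming from elements of `M`. -/
noncomputable def toSec (U : (Spec R).Opens) : M →ₗ[R] Γ(tilde M, U) :=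
  (tilde.toOpen M U).hom

theorem resM_toSec {U V : (Spec R).Opens} (h : V ≤ U) (x : M) :
    resM (tilde M) h (toSec M U x) = toSec M V x :=
  congrArg (fun φ => φ.hom x) (tilde.toOpen_res M U V (homOfLE h))

theorem resM_smul_base {U V : (Spec R).Opens} (h : V ≤ U) (r : R) (x : Γ(tilde M, U)) :
    resM (tilde M) h (r • x) = r • resM (tilde M) h x :=
  ((modulesSpecToSheaf.obj (tilde M)).presheaf.map (homOfLE h).op).hom.map_smul r x

theorem exists_pow_smul_eq_toSec (a : R) (x : Γ(tilde M, bo a)) :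
    ∃ (k : ℕ) (m : M), a ^ k • x = toSec M (bo a) m := by
  obtain ⟨⟨m, ⟨_, k, rfl⟩⟩, hm⟩ :=
    IsLocalizedModule.surj (Submonoid.powers a) (tilde.toOpen M (bo a)).hom x
  exact ⟨k, m, hm⟩

theorem exists_pow_of_toSec_eq (a : R) {x y : M}
    (h : toSec M (bo a) x = toSec M (bo a) y) :
    ∃ k : ℕ, a ^ k • x = a ^ k • y := by
  obtain ⟨⟨_, k, rfl⟩, hk⟩ := IsLocalizedModule.exists_of_eq (S := Submonoid.powers a)
    (f := (tilde.toOpen M (bo a)).hom) h
  exact ⟨k, hk⟩

theorem localGen_of_genOn (U : (Spec R).Opens) {n : ℕ} (s : ULift.{u} (Fin n) → Γ(tilde M, U))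
    (hs : GenOn (tilde M) U s) : LocalGen (R := R) (SetLike.coe U : Set (PrimeSpectrum R)) n M := by
  classical
  intro S hS
  have hle : ∀ a : S, (bo (a : R)) ≤ U := fun a => hS a.1 a.2
  choose k₀ m₀ hm₀ using fun (a : S) (j : Fin n) =>
    exists_pow_smul_eq_toSec M (a : R) (resM (tilde M) (hle a) (s ⟨j⟩))
  let e : ℕ := Finset.univ.sup fun q : S × Fin n => k₀ q.1 q.2
  obtain ⟨m₁, hm₁⟩ : ∃ m₁ : S → Fin n → M, ∀ (a : S) (j : Fin n), toSec M (bo (a : R)) (m₁ a j) =
      (a : R) ^ e • resM (tilde M) (hle a) (s ⟨j⟩) := ⟨fun a j => (a : R) ^ (e - k₀ a j) • m₀ a j, fun a j => by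
    rw [map_smul, ← hm₀, smul_smul, ← pow_add,
      Nat.sub_add_cancel (Finset.le_sup (f := fun q : S × Fin n => k₀ q.1 q.2) (Finset.mem_univ (a, j)))]⟩
  have hov : ∀ (q : S × S × Fin n), ∃ K : ℕ,
      ((q.1 : R) * q.2.1) ^ K • ((q.2.1 : R) ^ e • m₁ q.1 q.2.2) =
        ((q.1 : R) * q.2.1) ^ K • ((q.1 : R) ^ e • m₁ q.2.1 q.2.2) := by
    rintro ⟨a, b, j⟩
    refine exists_pow_of_toSec_eq M _ ?_
    have ha : (bo ((a : R) * (b : R))) ≤ bo (a : R) :=
      PrimeSpectrum.basicOpen_mul_le_left _ _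
    have hb : (bo ((a : R) * (b : R))) ≤ bo (b : R) :=
      PrimeSpectrum.basicOpen_mul_le_right _ _
    rw [map_smul, map_smul, ← resM_toSec M ha, ← resM_toSec M hb, hm₁, hm₁, resM_smul_base,
      resM_smul_base, resM_resM, resM_resM, smul_comm]
  choose K hK using hov
  let L : ℕ := Finset.univ.sup K
  let m : R → Fin n → M := fun a j => if h : a ∈ S then a ^ L • m₁ ⟨a, h⟩ j else 0
  refine ⟨L + e, m, fun a ha b hb j => ?_, fun a ha p hp x => ?_⟩
  · simp only [m, dif_pos ha, dif_pos hb, smul_smul]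
    have h := hK (⟨a, ha⟩, ⟨b, hb⟩, j)
    have hKL : K (⟨a, ha⟩, ⟨b, hb⟩, j) ≤ L := Finset.le_sup (Finset.mem_univ _)
    have h2 := congrArg (fun t => (a * b) ^ (L - K (⟨a, ha⟩, ⟨b, hb⟩, j)) • t) h
    simp only [smul_smul, ← mul_assoc, ← pow_add, Nat.sub_add_cancel hKL] at h2
    convert h2 using 2 <;> ring
  · let a' : S := ⟨a, ha⟩
    obtain ⟨W, hW, hpW, c, hc⟩ := hs (bo a) (hle a') (toSec M _ x) p hp
    obtain ⟨_, ⟨_, ⟨g, rfl⟩, rfl⟩, hpg, hgW⟩ :=
      PrimeSpectrum.isBasis_basic_opens.exists_subset_of_mem_open hpW W.2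
    have hgW' : (bo g) ≤ W := hgW
    let D : (Spec R).Opens := bo g
    have hc' := congrArg (resM (tilde M) hgW') hc
    simp only [resM_resM, map_sum, resM_smul, resM_toSec] at hc'
    obtain ⟨⟨_, k, rfl⟩, hr⟩ := IsLocalization.exist_integer_multiples (Submonoid.powers g)
      Finset.univ (fun i => (Spec R).presheaf.map (homOfLE hgW').op (c i))
    choose r hr using fun i => hr i (Finset.mem_univ _)
    have key : toSec M D ((g ^ k * a ^ e) • x) = toSec M D (∑ j, r ⟨j⟩ • m₁ a' j) := by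
      rw [map_smul, hc', map_sum, Finset.smul_sum]
      refine (Fintype.sum_equiv Equiv.ulift _ _ fun i => ?_)
      show _ = toSec M D (r i • m₁ a' i.down)
      rw [map_smul, ← resM_toSec M (show D ≤ bo (a' : R) from hgW'.trans hW) (m₁ a' i.down), hm₁, resM_smul_base, resM_resM,
        mul_comm, mul_smul, smul_comm (r i), ← algebraMap_smul Γ(Spec R, D) (r i)]
      refine congrArg (fun t => a ^ e • t) ?_
      rw [← smul_assoc]
      refine congrArg (fun t : Γ(Spec R, D) => t • resM (tilde M) _ (s i)) ?_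
      exact (hr i).symm
    obtain ⟨l, hl⟩ := exists_pow_of_toSec_eq M g key
    refine ⟨g ^ l * (g ^ k * a ^ e) * a ^ L, ?_, ?_⟩
    · intro hmem
      rcases p.isPrime.mem_or_mem hmem with h | h
      · rcases p.isPrime.mem_or_mem h with h | h
        · exact hpg (p.isPrime.mem_of_pow_mem _ h)
        · rcases p.isPrime.mem_or_mem h with h | h
          · exact hpg (p.isPrime.mem_of_pow_mem _ h)
          · exact hp (p.isPrime.mem_of_pow_mem _ h)
      · exact hp (p.isPrime.mem_of_pow_mem _ h)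
    · rw [mul_comm, mul_smul, mul_smul, hl, smul_comm, Finset.smul_sum]
      refine Submodule.smul_mem _ _ (Submodule.sum_mem _ fun j _ => ?_)
      rw [smul_comm]
      refine Submodule.smul_mem _ _ (Submodule.subset_span ⟨j, ?_⟩)
      simp [m, a', ha]

theorem localGen_of_epi (U : (Spec R).Opens) (n : ℕ)
    (φ : FlatMod.freeMod (↑U : Scheme.{u}) n ⟶ (tilde M).restrict U.ι) [Epi φ] :
    LocalGen (R := R) (SetLike.coe U : Set (PrimeSpectrum R)) n M := by
  let π : Groth.Agent.Coherent.freeMod (↑U : Scheme.{u}) (ULift.{u} (Fin n)) ⟶ FlatMod.freeMod (↑U : Scheme.{u}) n :=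
    freeDesc fun i => Sigma.ι (fun _ : Fin n => Coh.structureModule (↑U : Scheme.{u})) i.down
  have hπ : Sigma.desc (fun i => freeInj (X := (↑U : Scheme.{u})) (ULift.up.{u} i)) ≫ π = 𝟙 _ :=
    Sigma.hom_ext _ _ fun i => by simp [π]
  have : Epi π := epi_of_epi_fac hπ
  have h := genOn_of_restrict U.ι (tilde M) (genOn_of_epi (π ≫ φ))
  have hle : U ≤ U.ι ''ᵁ ⊤ := by simp
  exact localGen_of_genOn M U _ (h.res hle)

end Tilde

end Groth.Agent.AlgzPiLib
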