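import Groth.Agent.AlgzPiLib.GenCount
import Groth.Agent.AlgzPiLib.NisCover
import Groth.Agent.Flatn12.PullbackSections
import Groth.Prelude.Def_FrameBundle
import Mathlib.RingTheory.Nakayama

/-!
Generators of a finite module from generators of its pullback to a Nisnevich cover of bounded length.
-/

set_option autoImplicit false

universe u

open CategoryTheory CategoryTheory.Limits AlgebraicGeometry TopologicalSpace

namespace Groth.Agent.AlgzPiLib

noncomputable section

set_option backward.isDefEq.respectTransparency.types false in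
/-- A reduced closed subscheme with support inside the range of an immersion factors through it. -/
theorem exists_factor_of_range {R : CommRingCat.{u}} {T : Scheme.{u}} (j : T ⟶ Spec R) [IsImmersion j]
    (J : Ideal R) (hJ : J.IsRadical) (hr : PrimeSpectrum.zeroLocus (J : Set R) ⊆ Set.range j) :
    ∃ h : Spec (CommRingCat.of (R ⧸ J)) ⟶ T, h ≫ j = Spec.map (CommRingCat.ofHom (Ideal.Quotient.mk J)) := by
  let c := Spec.map (CommRingCat.ofHom (Ideal.Quotient.mk J))
  have hred : _root_.IsReduced (R ⧸ J) := (Ideal.isRadical_iff_quotient_reduced J).mp hJ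
  have hsurj : Surjective (pullback.fst c j) := ⟨fun q => by
    have hq : c q ∈ PrimeSpectrum.zeroLocus (J : Set R) := fun x hx => by
      show Ideal.Quotient.mk J x ∈ q.asIdeal
      rw [Ideal.Quotient.eq_zero_iff_mem.mpr hx]
      exact zero_mem _
    obtain ⟨t, ht⟩ := hr hq
    have : q ∈ Set.range (pullback.fst c j) := by
      rw [Scheme.Pullback.range_fst]
      exact ⟨t, ht⟩
    exact this⟩
  have hclosed : IsClosedImmersion (pullback.fst c j) := by
    refine IsClosedImmersion.of_isPreimmersion _ ?_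
    rw [hsurj.surj.range_eq]
    exact isClosed_univ
  have : IsIso (pullback.fst c j) := isIso_of_isClosedImmersion_of_surjective _
  exact ⟨inv (pullback.fst c j) ≫ pullback.snd c j, by
    rw [Category.assoc, ← pullback.condition, IsIso.inv_hom_id_assoc]⟩

theorem exists_lift_generators {R S M : Type u} [CommRing R] [CommRing S] [Algebra R S] [AddCommGroup M]
    [Module R M] (hS : Function.Surjective (algebraMap R S)) {n : ℕ} (s : Fin n → TensorProduct R S M)
    (hs : Submodule.span S (Set.range s) = ⊤) :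
    ∃ μ : Fin n → M, Submodule.span R (Set.range μ) ⊔ RingHom.ker (algebraMap R S) • (⊤ : Submodule R M) = ⊤ := by
  choose μ hμ using fun i => TensorProduct.mk_surjective R M S hS (s i)
  refine ⟨μ, eq_top_iff.mpr fun y _ => ?_⟩
  have hy : TensorProduct.mk R S M 1 y ∈ Submodule.map (TensorProduct.mk R S M 1) (Submodule.span R (Set.range μ)) := by
    rw [Submodule.map_span, ← Set.range_comp]
    have : (TensorProduct.mk R S M 1 : M → TensorProduct R S M) ∘ μ = s := funext hμ
    rw [this, ← Submodule.restrictScalars_span R S hS, Submodule.restrictScalars_mem]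
    exact hs ▸ Submodule.mem_top
  obtain ⟨w, hw, hwy⟩ := hy
  let e : (R ⧸ RingHom.ker (algebraMap R S)) ≃ₗ[R] S :=
    (Submodule.quotEquivOfEq _ _ (by ext; simp [RingHom.mem_ker])).trans
      ((Algebra.linearMap R S).quotKerEquivOfSurjective hS)
  let E := (TensorProduct.congr e.symm (LinearEquiv.refl R M)).trans
    (TensorProduct.quotTensorEquivQuotSMul M (RingHom.ker (algebraMap R S)))
  have hE : ∀ z : M, E (TensorProduct.mk R S M 1 z) =
      (RingHom.ker (algebraMap R S) • (⊤ : Submodule R M)).mkQ z := by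
    intro z
    have h1 : e.symm 1 = Ideal.Quotient.mk _ 1 := e.symm_apply_eq.mpr (by simp [e]; exact (map_one (algebraMap R S)).symm)
    simp only [E, LinearEquiv.trans_apply, TensorProduct.mk_apply, TensorProduct.congr_tmul, LinearEquiv.refl_apply, h1]
    rw [TensorProduct.quotTensorEquivQuotSMul_mk_tmul, one_smul]
    rfl
  have h0 := congrArg E hwy
  rw [hE, hE] at h0
  exact Submodule.mem_sup.mpr ⟨w, hw, y - w, (Submodule.Quotient.eq _).mp h0.symm, by abel⟩

theorem exists_genAt_of_factor {R : CommRingCat.{u}} (M : ModuleCat.{u} R) [Module.Finite R M]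
    {U : Scheme.{u}} (f : U ⟶ Spec R) {N : ℕ}
    (φ : FlatMod.freeMod U N ⟶ (Scheme.Modules.pullback f).obj (tilde M)) [Epi φ]
    (J : Ideal R) (h : Spec (CommRingCat.of (R ⧸ J)) ⟶ U)
    (hh : h ≫ f = Spec.map (CommRingCat.ofHom (Ideal.Quotient.mk J))) :
    ∃ μ : Fin N → M, ∀ p ∈ PrimeSpectrum.zeroLocus (J : Set R),
      GenAt (Submodule.span R (Set.range μ)) p := by
  let S : CommRingCat.{u} := CommRingCat.of (R ⧸ J)
  let ψ : R ⟶ S := CommRingCat.ofHom (Ideal.Quotient.mk J)
  let M' : ModuleCat.{u} S := (ModuleCat.extendScalars ψ.hom).obj M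
  let e : (Scheme.Modules.pullback h).obj ((Scheme.Modules.pullback f).obj (tilde M)) ≅ tilde M' :=
    (Scheme.Modules.pullbackComp h f).app (tilde M) ≪≫ (Scheme.Modules.pullbackCongr hh).app (tilde M) ≪≫
      (Groth.Agent.Flatn12.tildePullbackIso ψ).app M
  let ι : (⊤ : (Spec S).Opens).toScheme ⟶ Spec S := (⊤ : (Spec S).Opens).ι
  have : Epi ((Scheme.Modules.pullback h).map φ) :=
    (Functor.preservesEpimorphisms_of_adjunction (Scheme.Modules.pullbackPushforwardAdjunction h)).preserves φ
  let χ : FlatMod.freeMod (Spec S) N ⟶ tilde M' :=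
    (FrB.pullbackFreeIso h N).inv ≫ (Scheme.Modules.pullback h).map φ ≫ e.hom
  have : Epi χ := inferInstance
  let π : Groth.Agent.Coherent.freeMod (Spec S) (ULift.{u} (Fin N)) ⟶ FlatMod.freeMod (Spec S) N :=
    Groth.Agent.Coherent.freeDesc fun i => Sigma.ι (fun _ : Fin N => Coh.structureModule (Spec S)) i.down
  have hπ : Sigma.desc (fun i => Groth.Agent.Coherent.freeInj (X := Spec S) (ULift.up.{u} i)) ≫ π = 𝟙 _ :=
    Sigma.hom_ext _ _ fun i => by simp [π]
  have : Epi π := epi_of_epi_fac hπ
  have hloc := localGen_of_genOn M' ⊤ _ (Groth.Agent.Coherent.genOn_of_epi (π ≫ χ))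
  let _ : Algebra R S := ψ.hom.toAlgebra
  have : Module.Finite S M' :=
    @Module.Finite.base_change R S M _ _ ψ.hom.toAlgebra _ _ _
  obtain ⟨s, hs⟩ := exists_generators_of_cover (R := S) (M := M') (n := N) (m := 1) (fun _ => ⊤)
    (by simp) (fun _ => hloc)
  obtain ⟨μ, htop⟩ := @exists_lift_generators R S M _ _ ψ.hom.toAlgebra _ _
    (Ideal.Quotient.mk_surjective (I := J)) N (fun i => s (Fin.cast (Nat.mul_one N).symm i)) (by
      refine (congrArg (Submodule.span S) ?_).trans hs
      exact (Fin.castOrderIso (Nat.mul_one N).symm).surjective.range_comp s)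
  rw [show RingHom.ker (algebraMap R S) = J from Ideal.mk_ker] at htop
  refine ⟨μ, fun p hp x => ?_⟩
  obtain ⟨r, hr1, hr0⟩ := Submodule.exists_sub_one_mem_and_smul_eq_zero_of_fg_of_le_smul J
    (⊤ : Submodule R (M ⧸ Submodule.span R (Set.range μ))) Module.Finite.fg_top (by
      rintro z -
      obtain ⟨z, rfl⟩ := Submodule.mkQ_surjective _ z
      obtain ⟨a, ha, b, hb, rfl⟩ := Submodule.mem_sup.mp (htop.ge (Submodule.mem_top (x := z)))
      rw [map_add, Submodule.mkQ_apply, (Submodule.Quotient.mk_eq_zero _).mpr ha, zero_add]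
      have := Submodule.mem_map_of_mem (f := (Submodule.span R (Set.range μ)).mkQ) hb
      rw [Submodule.map_smul''] at this
      exact Submodule.smul_mono le_rfl le_top this)
  refine ⟨r, fun hrp => p.isPrime.ne_top ((Ideal.eq_top_iff_one _).mpr ?_), ?_⟩
  · have := sub_mem hrp (hp hr1)
    simpa using this
  · have := hr0 ((Submodule.span R (Set.range μ)).mkQ x) Submodule.mem_top
    rw [← map_smul] at this
    exact (Submodule.Quotient.mk_eq_zero _).mp this

theorem exists_generators_of_nisCover {R : CommRingCat.{u}} (M : ModuleCat.{u} R) [Module.Finite R M]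
    {U : Scheme.{u}} (f : U ⟶ Spec R) {m N : ℕ} (hf : W4c5algebraiztannaka.IsNisCoverLen f m)
    (φ : FlatMod.freeMod U N ⟶ (Scheme.Modules.pullback f).obj (tilde M)) [Epi φ] :
    ∃ s : Fin (N * m) → M, Submodule.span R (Set.range s) = ⊤ := by
  obtain ⟨-, Z, hZ0, hZ1, hZm, hZ, hsec⟩ := hf
  suffices H : ∀ k (hk : k ≤ m), ∃ s : Fin (N * k) → M, ∀ p ∈ Z ⟨k, Nat.lt_succ_of_le hk⟩,
      GenAt (Submodule.span R (Set.range s)) p by
    obtain ⟨s, hs⟩ := H m le_rfl
    refine ⟨s, eq_top_iff.mpr fun x _ => ?_⟩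
    by_contra hx
    obtain ⟨q, hq, hle⟩ := Ideal.exists_le_maximal ((Submodule.span R (Set.range s)).colon {x}) fun hI => hx (by
      have h1 : (1 : R) ∈ (Submodule.span R (Set.range s)).colon {x} := hI ▸ Submodule.mem_top
      simpa using Submodule.mem_colon_singleton.mp h1)
    obtain ⟨g, hg, hgx⟩ := hs ⟨q, hq.isPrime⟩ (by
      rw [show (⟨m, Nat.lt_succ_of_le le_rfl⟩ : Fin (m + 1)) = Fin.last m from rfl, hZ1]
      trivial) x
    exact hg (hle (Submodule.mem_colon_singleton.mpr hgx))
  intro k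
  induction k with
  | zero => exact fun _ => ⟨fun i => Fin.elim0 (Fin.cast (Nat.mul_zero N) i), fun p hp => absurd hp (by
      rw [show (⟨0, Nat.lt_succ_of_le (Nat.zero_le m)⟩ : Fin (m + 1)) = 0 from rfl, hZ0]
      exact id)⟩
  | succ k ih =>
    intro hk
    obtain ⟨s, hs⟩ := ih (by omega)
    let q : Fin m := ⟨k, hk⟩
    let C : Set (PrimeSpectrum R) :=
      (Z q.succ : Set (PrimeSpectrum R)) \ {p | GenAt (Submodule.span R (Set.range s)) p}
    have hC : IsClosed C := IsClosed.sdiff (hZ q.succ).1 (isOpen_genAt _)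
    obtain ⟨J, hJC⟩ := (PrimeSpectrum.isClosed_iff_zeroLocus_radical_ideal C).mp hC
    obtain ⟨T, j, t, hj, hjr, hjt⟩ := hsec q
    obtain ⟨h, hh⟩ := exists_factor_of_range j J hJC.1 (by
      rw [← hJC.2]
      rintro p ⟨hp1, hp2⟩
      exact hjr.ge ⟨hp1, fun hp => hp2 (hs p hp)⟩)
    obtain ⟨μ, hμ⟩ := exists_genAt_of_factor M f φ J (h ≫ t) (by rw [Category.assoc, hjt, hh])
    refine ⟨fun i => Fin.append s μ (Fin.cast (Nat.mul_succ N k) i), fun p hp => ?_⟩
    rw [(Fin.castOrderIso (Nat.mul_succ N k)).surjective.range_comp (Fin.append s μ) |>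
      fun e => (show Set.range (fun i => Fin.append s μ (Fin.cast (Nat.mul_succ N k) i)) =
        Set.range (Fin.append s μ) from e)]
    by_cases hg : GenAt (Submodule.span R (Set.range s)) p
    · refine hg.mono (Submodule.span_mono ?_)
      rintro _ ⟨i, rfl⟩
      exact ⟨Fin.castAdd _ i, Fin.append_left _ _ _⟩
    · refine (hμ p (hJC.2.subset ⟨hp, hg⟩)).mono (Submodule.span_mono ?_)
      rintro _ ⟨i, rfl⟩
      exact ⟨Fin.natAdd _ i, Fin.append_right _ _ _⟩

end

end Groth.Agent.AlgzPiLib
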