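import Mathlib.AlgebraicGeometry.PointsPi
import Mathlib.AlgebraicGeometry.EffectiveEpi
import Mathlib.AlgebraicGeometry.Morphisms.Flat
import Mathlib.AlgebraicGeometry.Morphisms.QuasiSeparated
import Mathlib.RingTheory.Localization.Away.Basic
import Mathlib.RingTheory.RingHom.Flat
import Mathlib.GroupTheory.MonoidLocalization.Lemmas

/-!
`X(∏ Aᵢ) = ∏ X(Aᵢ)` for quasi-compact quasi-separated schemes `X`, by fpqc descent along
`∏ Aᵢ → ∏_k ∏_i Aᵢ[1/a_{k i}]`.
-/

set_option autoImplicit false

open CategoryTheory Limits AlgebraicGeometry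

universe u

namespace Groth.Agent.AlgzPiLib

noncomputable section

variable {ι : Type u} (A : ι → CommRingCat.{u})

abbrev piRing : CommRingCat.{u} := CommRingCat.of (∀ i, A i)

abbrev away (a : ∀ i, A i) (i : ι) : CommRingCat.{u} := CommRingCat.of (Localization.Away (a i))

def piAwayHom (a : ∀ i, A i) : (∀ i, A i) →+* ∀ i, Localization.Away (a i) :=
  RingHom.pi fun i => (algebraMap (A i) (Localization.Away (a i))).comp (Pi.evalRingHom (fun j => (A j : Type u)) i)

def piPowers (a : ∀ i, A i) : Submonoid (∀ i, A i) :=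
  Submonoid.pi Set.univ fun i => Submonoid.powers (a i)

theorem isLocalization_piAway (a : ∀ i, A i) :
    @IsLocalization _ _ (piPowers A a) (∀ i, Localization.Away (a i)) _ (piAwayHom A a).toAlgebra := by
  letI := (piAwayHom A a).toAlgebra
  rw [isLocalization_iff_isLocalizationMap]
  have h := Submonoid.IsLocalizationMap.pi (fun i => Submonoid.powers (a i))
    (f := fun i => ⇑(algebraMap (A i) (Localization.Away (a i))))
    fun i => (isLocalization_iff_isLocalizationMap _ _).mp inferInstance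
  exact h

theorem piAwayHom_flat (a : ∀ i, A i) : (piAwayHom A a).Flat := by
  letI := (piAwayHom A a).toAlgebra
  haveI := isLocalization_piAway A a
  exact IsLocalization.flat _ (piPowers A a)

theorem exists_partition {B : CommRingCat.{u}} {X : Scheme.{u}} {J : Type u} [Fintype J] (U : J → X.Opens)
    (hU : ⨆ k, U k = ⊤) (g : Spec B ⟶ X) :
    ∃ a : J → B, Ideal.span (Set.range a) = ⊤ ∧
      ∀ k, ∀ q : PrimeSpectrum B, a k ∉ q.asIdeal → g q ∈ U k := by
  let V : J → Set (PrimeSpectrum B) := fun k => (g ⁻¹' (U k : Set X))ᶜ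
  let I : J → Ideal B := fun k => PrimeSpectrum.vanishingIdeal (V k)
  have hI : ⨆ k, I k = ⊤ := by
    by_contra hne
    obtain ⟨m, hm, hle⟩ := Ideal.exists_le_maximal _ hne
    let q : PrimeSpectrum B := ⟨m, hm.isPrime⟩
    have hx : g q ∈ ⨆ k, U k := hU ▸ trivial
    obtain ⟨k, hk⟩ := TopologicalSpace.Opens.mem_iSup.mp hx
    have hclosed : IsClosed (V k) :=
      ((U k).2.preimage g.continuous).isClosed_compl
    have hq : q ∈ PrimeSpectrum.zeroLocus (I k : Set B) := fun x hx => (le_iSup I k).trans hle hx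
    rw [PrimeSpectrum.zeroLocus_vanishingIdeal_eq_closure, hclosed.closure_eq] at hq
    exact hq hk
  have h1 : (1 : B) ∈ ⨆ k ∈ (Finset.univ : Finset J), I k := by simp [hI]
  obtain ⟨a, hsum⟩ := (Submodule.mem_iSup_finset_iff_exists_sum (s := (Finset.univ : Finset J)) I 1).mp h1
  refine ⟨fun k => (a k : B), ?_, fun k q hq => ?_⟩
  · rw [Ideal.eq_top_iff_one, ← hsum]
    exact sum_mem fun k _ => Ideal.subset_span ⟨k, rfl⟩
  · by_contra hk
    exact hq ((PrimeSpectrum.mem_vanishingIdeal _ _).mp (a k).2 q hk)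

/-- `g` restricts to the given family `f` on each factor. -/
def Agrees {X : Scheme.{u}} (f : ∀ i, Spec (A i) ⟶ X) (a : ∀ i, A i)
    (g : Spec (piRing (away A a)) ⟶ X) : Prop :=
  ∀ i, Spec.map (CommRingCat.ofHom (Pi.evalRingHom (fun j => (away A a j : Type u)) i)) ≫ g =
    Spec.map (CommRingCat.ofHom (algebraMap (A i) (Localization.Away (a i)))) ≫ f i

abbrev piMap (a : ∀ i, A i) : Spec (piRing (away A a)) ⟶ Spec (piRing A) :=
  Spec.map (CommRingCat.ofHom (piAwayHom A a))

def piHom {B C : ι → CommRingCat.{u}} (φ : ∀ i, B i ⟶ C i) : piRing B ⟶ piRing C :=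
  CommRingCat.ofHom (RingHom.pi fun i => (φ i).hom.comp (Pi.evalRingHom (fun j => (B j : Type u)) i))

theorem piHom_eval {B C : ι → CommRingCat.{u}} (φ : ∀ i, B i ⟶ C i) (i : ι) :
    piHom φ ≫ CommRingCat.ofHom (Pi.evalRingHom (fun j => (C j : Type u)) i) =
      CommRingCat.ofHom (Pi.evalRingHom (fun j => (B j : Type u)) i) ≫ φ i := rfl

def piAwayLift (a c : ∀ i, A i) (h : ∀ i, IsUnit (algebraMap (A i) (Localization.Away (c i)) (a i))) :
    piRing (away A a) ⟶ piRing (away A c) :=
  piHom (B := away A a) (C := away A c) fun i => CommRingCat.ofHom (IsLocalization.Away.lift (a i) (h i))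

theorem piAwayLift_comp (a c : ∀ i, A i) (h : ∀ i, IsUnit (algebraMap (A i) (Localization.Away (c i)) (a i))) :
    (piAwayLift A a c h).hom.comp (piAwayHom A a) = piAwayHom A c :=
  RingHom.ext fun x => funext fun i => IsLocalization.Away.lift_eq (a i) (h i) (x i)

theorem isUnit_piAwayHom (a : ∀ i, A i) (n : ι → ℕ) : IsUnit (piAwayHom A a fun i => a i ^ n i) :=
  Pi.isUnit_iff.mpr fun i => by
    show IsUnit (algebraMap (A i) (Localization.Away (a i)) (a i ^ n i))
    rw [map_pow]
    exact (IsLocalization.Away.algebraMap_isUnit (a i)).pow _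

theorem agrees_lift {X : Scheme.{u}} {f : ∀ i, Spec (A i) ⟶ X} {a c : ∀ i, A i}
    {g : Spec (piRing (away A a)) ⟶ X} (hg : Agrees A f a g)
    (h : ∀ i, IsUnit (algebraMap (A i) (Localization.Away (c i)) (a i))) :
    Agrees A f c (Spec.map (piAwayLift A a c h) ≫ g) := by
  intro i
  have hev := piHom_eval (B := away A a) (C := away A c)
    (fun i => CommRingCat.ofHom (IsLocalization.Away.lift (a i) (h i))) i
  have hl : (CommRingCat.ofHom (algebraMap (A i) (Localization.Away (a i))) : A i ⟶ away A a i) ≫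
      CommRingCat.ofHom (IsLocalization.Away.lift (a i) (h i)) =
        (CommRingCat.ofHom (algebraMap (A i) (Localization.Away (c i))) : A i ⟶ away A c i) :=
    CommRingCat.hom_ext (IsLocalization.Away.lift_comp (a i) (h i))
  refine (Spec.map_comp_assoc _ _ g).symm.trans ?_
  refine (congrArg (fun t => Spec.map t ≫ g) hev).trans ?_
  refine (Spec.map_comp_assoc _ _ g).trans ?_
  refine (congrArg (fun t => _ ≫ t) (hg i)).trans ?_
  refine (Spec.map_comp_assoc _ _ (f i)).symm.trans ?_
  exact congrArg (fun t => Spec.map t ≫ f i) hl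

theorem agrees_pullback {X : Scheme.{u}} [QuasiSeparatedSpace X] {f : ∀ i, Spec (A i) ⟶ X} {a b : ∀ i, A i}
    {ga : Spec (piRing (away A a)) ⟶ X} (hga : Agrees A f a ga)
    {gb : Spec (piRing (away A b)) ⟶ X} (hgb : Agrees A f b gb)
    {W : Scheme.{u}} [IsAffine W] (p : W ⟶ Spec (piRing (away A a))) (q : W ⟶ Spec (piRing (away A b)))
    (hpq : p ≫ piMap A a = q ≫ piMap A b) : p ≫ ga = q ≫ gb := by
  let c : ∀ i, A i := fun i => a i * b i
  have hc : ∀ i, IsUnit (algebraMap (A i) (Localization.Away (c i)) (a i)) ∧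
      IsUnit (algebraMap (A i) (Localization.Away (c i)) (b i)) := fun i => by
    rw [← IsUnit.mul_iff, ← map_mul]
    exact IsLocalization.Away.algebraMap_isUnit (c i)
  obtain ⟨φ₁, hφ₁⟩ := Spec.map_surjective (W.isoSpec.inv ≫ p)
  obtain ⟨φ₂, hφ₂⟩ := Spec.map_surjective (W.isoSpec.inv ≫ q)
  have hφ : φ₁.hom.comp (piAwayHom A a) = φ₂.hom.comp (piAwayHom A b) := by
    have h : Spec.map φ₁ ≫ piMap A a = Spec.map φ₂ ≫ piMap A b := by
      rw [hφ₁, hφ₂, Category.assoc, Category.assoc, hpq]
    rw [← Spec.map_comp, ← Spec.map_comp] at h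
    exact congrArg CommRingCat.Hom.hom (Spec.map_injective h)
  let _ : Algebra (∀ i, A i) (∀ i, Localization.Away (c i)) := (piAwayHom A c).toAlgebra
  have _ := isLocalization_piAway A c
  have hu : ∀ y : piPowers A c, IsUnit (φ₁.hom.comp (piAwayHom A a) y) := by
    intro y
    choose n hn using fun i => (Submonoid.mem_powers_iff _ _).mp (y.2 i (Set.mem_univ i))
    have hy : (y : ∀ i, A i) = (fun i => a i ^ n i) * fun i => b i ^ n i := by
      funext i
      rw [Pi.mul_apply, ← mul_pow]
      exact (hn i).symm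
    rw [hy, map_mul]
    refine IsUnit.mul ((isUnit_piAwayHom A a n).map φ₁.hom) ?_
    rw [hφ]
    exact (isUnit_piAwayHom A b n).map φ₂.hom
  let ρ : piRing (away A c) ⟶ Γ(W, ⊤) := CommRingCat.ofHom (IsLocalization.lift hu)
  have hρ : ρ.hom.comp (piAwayHom A c) = φ₁.hom.comp (piAwayHom A a) := IsLocalization.lift_comp hu
  have e1 : φ₁ = piAwayLift A a c (fun i => (hc i).1) ≫ ρ := by
    let _ : Algebra (∀ i, A i) (∀ i, Localization.Away (a i)) := (piAwayHom A a).toAlgebra
    have _ := isLocalization_piAway A a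
    refine CommRingCat.hom_ext (IsLocalization.ringHom_ext (piPowers A a) ?_)
    rw [CommRingCat.hom_comp, RingHom.comp_assoc]
    exact ((congrArg ρ.hom.comp (piAwayLift_comp A a c fun i => (hc i).1)).trans hρ).symm
  have e2 : φ₂ = piAwayLift A b c (fun i => (hc i).2) ≫ ρ := by
    let _ : Algebra (∀ i, A i) (∀ i, Localization.Away (b i)) := (piAwayHom A b).toAlgebra
    have _ := isLocalization_piAway A b
    refine CommRingCat.hom_ext (IsLocalization.ringHom_ext (piPowers A b) ?_)
    rw [CommRingCat.hom_comp, RingHom.comp_assoc]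
    exact (((congrArg ρ.hom.comp (piAwayLift_comp A b c fun i => (hc i).2)).trans hρ).trans hφ).symm
  have main : Spec.map (piAwayLift A a c fun i => (hc i).1) ≫ ga =
      Spec.map (piAwayLift A b c fun i => (hc i).2) ≫ gb :=
    pointsPi_injective (away A c) X (funext fun i =>
      (agrees_lift A hga (fun i => (hc i).1) i).trans (agrees_lift A hgb (fun i => (hc i).2) i).symm)
  rw [← cancel_epi W.isoSpec.inv, ← Category.assoc, ← hφ₁, ← Category.assoc W.isoSpec.inv, ← hφ₂, e1, e2,
    Spec.map_comp, Spec.map_comp, Category.assoc, Category.assoc, main]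

section

variable {J : Type u} [Finite J] (b : J → ∀ i, A i)

abbrev coverMap : (∐ fun k : J => Spec (piRing (away A (b k)))) ⟶ Spec (piRing A) :=
  Sigma.desc fun k => piMap A (b k)

set_option backward.isDefEq.respectTransparency.types false in
theorem coverMap_flat : Flat (coverMap A b) := by
  refine (IsZariskiLocalAtSource.sigmaDesc (P := @Flat) fun k => ?_)
  rw [HasRingHomProperty.Spec_iff (P := @Flat)]
  exact piAwayHom_flat A (b k)

theorem coverMap_surjective (hb : ∀ i, Ideal.span (Set.range fun k => b k i) = ⊤) :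
    Surjective (coverMap A b) := by
  constructor
  intro p
  obtain ⟨k, hk⟩ : ∃ k : J, Disjoint (piPowers A (b k) : Set (∀ i, A i)) (p.asIdeal : Set (∀ i, A i)) := by
    by_contra hne
    simp only [not_exists, Set.not_disjoint_iff] at hne
    choose c hc hcp using hne
    refine p.isPrime.ne_top (top_le_iff.mp ((Ideal.span_eq_top_of_span_image_evalRingHom
      (Set.range c) (Set.finite_range c) fun i => ?_).ge.trans (Ideal.span_le.mpr ?_)))
    · choose n hn using fun k => (Submonoid.mem_powers_iff _ _).mp (hc k i (Set.mem_univ i))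
      rw [← Set.range_comp]
      have h2 : Ideal.span (Set.range fun k : J => b k i ^ n k) = ⊤ := by
        rw [← Ideal.radical_eq_top, eq_top_iff, ← hb i, Ideal.span_le]
        rintro _ ⟨k, rfl⟩
        exact ⟨n k, Ideal.subset_span ⟨k, rfl⟩⟩
      refine Eq.trans ?_ h2
      congr 2
      funext k
      exact (hn k).symm
    · rintro _ ⟨k, rfl⟩
      exact hcp k
  let _ := (piAwayHom A (b k)).toAlgebra
  have _ := isLocalization_piAway A (b k)
  obtain ⟨q, hq⟩ := (PrimeSpectrum.localization_comap_range (∀ i, Localization.Away (b k i))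
    (piPowers A (b k))).symm.subset hk
  refine ⟨(Sigma.ι (fun k : J => Spec (piRing (away A (b k)))) k) q, ?_⟩
  exact congr($(Sigma.ι_desc (fun k => piMap A (b k)) k) q).trans hq

end

theorem aux {J : Type u} {P : J → Scheme.{u}} {Y X : Scheme.{u}} (π : ∀ k, P k ⟶ Y) (g : ∀ k, P k ⟶ X)
    (h : ∀ k l, pullback.fst (π k) (π l) ≫ g k = pullback.snd (π k) (π l) ≫ g l)
    {V : Scheme.{u}} (x y : V ⟶ ∐ P) {k l : J} {W : Scheme.{u}} {c : W ⟶ P k} (d : V ⟶ W) (y' : V ⟶ P l)
    (hx : x = (d ≫ c) ≫ Sigma.ι P k) (hy : y = y' ≫ Sigma.ι P l)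
    (hxy : x ≫ Sigma.desc π = y ≫ Sigma.desc π) : x ≫ Sigma.desc g = y ≫ Sigma.desc g := by
  subst hx hy
  simp only [Category.assoc, Sigma.ι_desc] at hxy ⊢
  have h4 := congrArg (pullback.lift _ _ ((Category.assoc _ _ _).trans hxy) ≫ ·) (h k l)
  simpa only [pullback.lift_fst_assoc, pullback.lift_snd_assoc, Category.assoc] using h4

theorem hom_ext_sigma_pullback {J : Type u} {P : J → Scheme.{u}} {Y X : Scheme.{u}} (π : ∀ k, P k ⟶ Y) (g : ∀ k, P k ⟶ X)
    (h : ∀ k l, pullback.fst (π k) (π l) ≫ g k = pullback.snd (π k) (π l) ≫ g l) :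
    pullback.fst (Sigma.desc π) (Sigma.desc π) ≫ Sigma.desc g =
      pullback.snd (Sigma.desc π) (Sigma.desc π) ≫ Sigma.desc g := by
  let Q := sigmaOpenCover P
  refine Scheme.Cover.hom_ext (Q.pullback₁ (pullback.fst (Sigma.desc π) (Sigma.desc π))) _ _ fun k => ?_
  refine Scheme.Cover.hom_ext (Q.pullback₁
    (pullback.fst (pullback.fst (Sigma.desc π) (Sigma.desc π)) (Q.f k) ≫ pullback.snd (Sigma.desc π) (Sigma.desc π))) _ _ fun l => ?_
  show pullback.fst (pullback.fst (pullback.fst (Sigma.desc π) (Sigma.desc π)) (Sigma.ι P k) ≫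
        pullback.snd (Sigma.desc π) (Sigma.desc π)) (Sigma.ι P l) ≫
        pullback.fst (pullback.fst (Sigma.desc π) (Sigma.desc π)) (Sigma.ι P k) ≫
          pullback.fst (Sigma.desc π) (Sigma.desc π) ≫ Sigma.desc g = _ ≫ _ ≫ _ ≫ _
  refine ((congrArg (fun t => _ ≫ t) (Category.assoc _ _ _).symm).trans (Category.assoc _ _ _).symm).trans (Eq.trans ?_
    ((congrArg (fun t => _ ≫ t) (Category.assoc _ _ _).symm).trans (Category.assoc _ _ _).symm).symm)
  refine aux π g h _ _ (k := k) (l := l) (c := pullback.snd (pullback.fst (Sigma.desc π) (Sigma.desc π)) (Sigma.ι P k)) ?d ?y ?hx ?hy ?hxy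
  case d => exact pullback.fst _ _
  case y => exact pullback.snd _ _
  case hx => exact (congrArg (fun t => _ ≫ t) pullback.condition).trans (Category.assoc _ _ _).symm
  case hy => exact pullback.condition
  case hxy =>
    exact (Category.assoc _ _ _).trans ((congrArg (fun t => _ ≫ t) ((Category.assoc _ _ _).trans
      ((congrArg (fun t => _ ≫ t) pullback.condition).trans (Category.assoc _ _ _).symm))).trans (Category.assoc _ _ _).symm)

theorem pointsPi_surjective (X : Scheme.{u}) [CompactSpace X] [QuasiSeparatedSpace X] :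
    Function.Surjective (pointsPi A X) := by
  intro f
  let 𝒰 : X.OpenCover := X.affineCover.finiteSubcover
  have _ : Fintype 𝒰.I₀ := Fintype.ofFinite _
  have _ : ∀ k : 𝒰.I₀, IsAffine (𝒰.X k) := fun k => inferInstanceAs (IsAffine (Spec _))
  choose a ha hmem using fun i =>
    exists_partition (fun k : 𝒰.I₀ => (𝒰.f k).opensRange) 𝒰.iSup_opensRange (f i)
  let b : 𝒰.I₀ → ∀ i, A i := fun k i => a i k
  have hloc : ∀ (k : 𝒰.I₀) (i : ι), ∃ g : Spec (away A (b k) i) ⟶ 𝒰.X k,
      g ≫ 𝒰.f k = Spec.map (CommRingCat.ofHom (algebraMap (A i) (Localization.Away (b k i)))) ≫ f i := by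
    intro k i
    refine ⟨IsOpenImmersion.lift (𝒰.f k)
      (Spec.map (CommRingCat.ofHom (algebraMap (A i) (Localization.Away (b k i)))) ≫ f i) ?_,
      IsOpenImmersion.lift_fac _ _ _⟩
    rintro _ ⟨q, rfl⟩
    refine hmem i k _ ?_
    intro hq
    exact q.isPrime.ne_top (Ideal.eq_top_of_isUnit_mem _ hq
      (IsLocalization.Away.algebraMap_isUnit (b k i)))
  choose gl hgl using hloc
  choose gk hgk using fun k : 𝒰.I₀ => pointsPi_surjective_of_isAffine (away A (b k)) (𝒰.X k) (gl k)
  have hag : ∀ k, Agrees A f (b k) (gk k ≫ 𝒰.f k) := fun k i => by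
    rw [← hgl, ← congr_fun (hgk k) i]
    exact (Category.assoc _ _ _).symm
  have _ := coverMap_flat A b
  have _ := coverMap_surjective A b ha
  obtain ⟨u, hu⟩ := @IsRegularEpi.exists_of_isKernelPair _ _ _ _ (coverMap A b)
    (isRegularEpi_of_flat_of_surjective_of_isAffine _) _ _ _ (IsPullback.of_hasPullback _ _) _
    (Sigma.desc fun k => gk k ≫ 𝒰.f k)
    (hom_ext_sigma_pullback _ _ fun k l =>
      agrees_pullback A (hag k) (hag l) _ _ pullback.condition)
  refine ⟨u, funext fun i => ?_⟩
  let C := Scheme.affineOpenCoverOfSpanRangeEqTop (R := A i) (fun k : 𝒰.I₀ => b k i) (ha i)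
  refine Scheme.Cover.hom_ext C.openCover _ _ fun k => ?_
  show Spec.map (CommRingCat.ofHom (algebraMap (A i) (Localization.Away (b k i)))) ≫ pointsPi A X u i =
    Spec.map (CommRingCat.ofHom (algebraMap (A i) (Localization.Away (b k i)))) ≫ f i
  have hev : CommRingCat.ofHom (Pi.evalRingHom (fun j => (A j : Type u)) i) ≫
      (CommRingCat.ofHom (algebraMap (A i) (Localization.Away (b k i))) : A i ⟶ away A (b k) i) =
      CommRingCat.ofHom (piAwayHom A (b k)) ≫
        CommRingCat.ofHom (Pi.evalRingHom (fun j => (away A (b k) j : Type u)) i) := rfl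
  have hk : piMap A (b k) ≫ u = gk k ≫ 𝒰.f k := by
    have h := congrArg (Sigma.ι (fun k => Spec (piRing (away A (b k)))) k ≫ ·) hu
    simpa [coverMap] using h
  rw [pointsPi, ← Spec.map_comp_assoc, hev, Spec.map_comp_assoc, hk]
  exact hag k i

end

end Groth.Agent.AlgzPiLib
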